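import Cfsg.Agent.Lib.Small.SelfCent.MainLift
import Cfsg.Agent.Lib.Lie.SL2Hom
import Cfsg.Agent.Lib.Lie.TwistTorus

/-!
A twisted Frobenius cycling three orthogonal roots: an element of the product of the three copies of SL2
changes the twist by the reflection in one of them.
-/

set_option autoImplicit false
set_option linter.unusedSectionVars false

namespace Cfsg.Agent.Small.SelfCent.E7

open Cfsg.Lie Cfsg.Agent.Lie Cfsg.Agent.Small.ChevInvol Cfsg.Agent.Small.SylowHom Matrix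
open scoped MatrixGroups

section SL2

variable {L : Type*} [Field L]

/-- Conjugation by diag(S, 1). -/
def twU (S : Lˣ) : SpecialLinearGroup (Fin 2) L →* SpecialLinearGroup (Fin 2) L :=
  MonoidHom.mk' (fun g => ⟨!![g.1 0 0, (S : L) * g.1 0 1; ((S⁻¹ : Lˣ) : L) * g.1 1 0, g.1 1 1], by
      rw [Matrix.det_fin_two_of]
      linear_combination RankOneRel.det_eq g - g.1 0 1 * g.1 1 0 * S.mul_inv⟩) fun g h => by
    refine Subtype.ext ?_
    ext a b
    show (!![(g * h).1 0 0, (S : L) * (g * h).1 0 1; ((S⁻¹ : Lˣ) : L) * (g * h).1 1 0, (g * h).1 1 1]) a b =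
      ((!![g.1 0 0, (S : L) * g.1 0 1; ((S⁻¹ : Lˣ) : L) * g.1 1 0, g.1 1 1] : Matrix (Fin 2) (Fin 2) L) *
        !![h.1 0 0, (S : L) * h.1 0 1; ((S⁻¹ : Lˣ) : L) * h.1 1 0, h.1 1 1]) a b
    rw [Matrix.mul_apply, Fin.sum_univ_two]
    fin_cases a <;> fin_cases b <;> simp [RankOneRel.entries_mul]
    · field_simp
    · ring
    · ring
    · field_simp

theorem twU_val (S : Lˣ) (g : SpecialLinearGroup (Fin 2) L) :
    (twU S g).1 = !![g.1 0 0, (S : L) * g.1 0 1; ((S⁻¹ : Lˣ) : L) * g.1 1 0, g.1 1 1] := rfl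

theorem closure_up_lo :
    Subgroup.closure (Set.range (upS (F := L)) ∪ Set.range (loS (F := L))) = (⊤ : Subgroup _) := by
  rw [eq_top_iff, ← RankOneRel.closure_up_ant, Subgroup.closure_le]
  rintro x (hx | hx)
  · exact Subgroup.subset_closure (Or.inl hx)
  · rw [Set.mem_singleton_iff] at hx
    have e : x = upS 1 * loS (-1) * upS 1 := by
      rw [hx]
      ext i j
      fin_cases i <;> fin_cases j <;> simp [RankOneRel.entries_mul, RankOneRel.upS_val, RankOneRel.loS_val,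
        RankOneRel.antS_val]
    rw [e]
    exact mul_mem (mul_mem (Subgroup.subset_closure (Or.inl ⟨1, rfl⟩)) (Subgroup.subset_closure (Or.inr ⟨-1, rfl⟩)))
      (Subgroup.subset_closure (Or.inl ⟨1, rfl⟩))

/-- The diagonal element. -/
def diagS (m : Lˣ) : SpecialLinearGroup (Fin 2) L :=
  ⟨!![(m : L), 0; 0, ((m⁻¹ : Lˣ) : L)], by rw [Matrix.det_fin_two_of]; simp⟩

variable [Fintype L]

theorem exists_root {e f : ℕ} (hL : Nat.card Lˣ = e * f) {a : Lˣ} (ha : a ^ f = 1) : ∃ x : Lˣ, x ^ e = a := by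
  obtain ⟨γ, hγ⟩ := IsCyclic.exists_generator (α := Lˣ)
  obtain ⟨k, rfl⟩ := Subgroup.mem_zpowers_iff.1 (hγ a)
  have ho : orderOf γ = e * f := by rw [orderOf_eq_card_of_forall_mem_zpowers hγ, hL]
  rw [← zpow_natCast, ← _root_.zpow_mul, ← orderOf_dvd_iff_zpow_eq_one, ho, Nat.cast_mul] at ha
  have hf0 : (f : ℤ) ≠ 0 := by
    have h0 : 0 < e * f := hL ▸ Nat.card_pos
    exact_mod_cast (Nat.pos_of_mul_pos_left h0).ne'
  obtain ⟨j, rfl⟩ := Int.dvd_of_mul_dvd_mul_right hf0 ha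
  exact ⟨γ ^ j, by rw [← zpow_natCast, ← _root_.zpow_mul, mul_comm]⟩

/-- The element twisting the split torus of SL2 into the nonsplit one. -/
theorem exists_sl2_twist {Q : ℕ} (hQ : 2 ≤ Q) (hL : Fintype.card L = Q ^ 4) (ρ : L ≃+* L) (hρ : ∀ t, ρ t = t ^ Q)
    (S : Lˣ) (hS : S ^ ((Q + 1) * (Q ^ 2 + 1)) = 1) :
    ∃ (m : Lˣ) (a : SpecialLinearGroup (Fin 2) L), twU S (Matrix.SpecialLinearGroup.map ρ.toRingHom a) =
      diagS m * antS * a := by
  have hc : Nat.card Lˣ = (Q - 1) * ((Q + 1) * (Q ^ 2 + 1)) := by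
    rw [Nat.card_units, Nat.card_eq_fintype_card, hL]
    obtain ⟨k, rfl⟩ : ∃ k, Q = k + 1 := ⟨Q - 1, by omega⟩
    rw [Nat.add_sub_cancel]
    rw [show k * ((k + 1 + 1) * ((k + 1) ^ 2 + 1)) = (k + 1) ^ 4 - 1 by
      rw [show (k + 1) ^ 4 = k * ((k + 1 + 1) * ((k + 1) ^ 2 + 1)) + 1 by ring]; simp]
  have hc2 : Nat.card Lˣ = (Q ^ 2 - 1) * (Q ^ 2 + 1) := by
    rw [hc, ← mul_assoc, show (Q - 1) * (Q + 1) = Q ^ 2 - 1 by
      rw [mul_comm, ← Nat.sq_sub_sq, one_pow]]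
  obtain ⟨lam, hlam⟩ := exists_root hc (a := S⁻¹) (by rw [inv_pow, hS, inv_one])
  have hneg : ((-1 : Lˣ)) ^ (Q ^ 2 + 1) = 1 := by
    rcases Nat.even_or_odd Q with he | ho
    · have h2 : (2 : L) = 0 := by
        obtain ⟨p, hp⟩ := CharP.exists L
        have := hp
        have hprime : p.Prime := (CharP.char_is_prime_or_zero L p).resolve_right (CharP.char_ne_zero_of_finite L p)
        obtain ⟨n, -, hn⟩ := FiniteField.card L p
        rw [hL] at hn
        have h2d : 2 ∣ p ^ (n : ℕ) := hn ▸ Dvd.dvd.pow he.two_dvd (by norm_num)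
        rw [← (Nat.prime_dvd_prime_iff_eq Nat.prime_two hprime).1 (Nat.prime_two.dvd_of_dvd_pow h2d)] at hp
        haveI := hp
        exact_mod_cast (CharP.cast_eq_zero L 2)
      have h1 : (-1 : Lˣ) = 1 := Units.ext (by simp only [Units.val_neg, Units.val_one]; linear_combination -h2)
      rw [h1, one_pow]
    · exact Even.neg_one_pow (by simp [Nat.even_add_one, ho.pow])
  obtain ⟨u, hu⟩ := exists_root hc2 hneg
  -- an element of the quadratic subfield outside the small field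
  obtain ⟨γ, hγ⟩ := IsCyclic.exists_generator (α := Lˣ)
  set k : Lˣ := γ ^ (Q ^ 2 + 1) with hk
  have hk2 : k ^ (Q ^ 2 - 1) = 1 := by
    rw [hk, ← pow_mul, mul_comm, ← hc2]
    exact pow_card_eq_one'
  have hk1 : (k : L) ^ Q ≠ k := by
    intro h
    have h1 : γ ^ ((Q ^ 2 + 1) * (Q - 1)) = 1 := by
      rw [pow_mul, ← hk]
      refine mul_right_cancel (b := k) ?_
      rw [← pow_succ, one_mul, Nat.sub_add_cancel (by omega : 1 ≤ Q)]
      exact Units.ext (by rw [Units.val_pow_eq_pow_val]; exact h)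
    have h2 := orderOf_dvd_of_pow_eq_one h1
    rw [orderOf_eq_card_of_forall_mem_zpowers hγ, hc2, mul_comm] at h2
    have h3 := Nat.le_of_dvd (Nat.mul_pos (by omega) (by omega)) h2
    have h5 : Q ^ 2 - 1 ≤ Q - 1 := Nat.le_of_mul_le_mul_left h3 (by omega)
    have : 2 * Q ≤ Q ^ 2 := by rw [pow_two]; exact Nat.mul_le_mul_right _ hQ
    omega
  have hQ21 : 1 ≤ Q ^ 2 := Nat.one_le_pow _ _ (by omega)
  -- in the field
  have hu' : (u : L) ^ Q ^ 2 = -(u : L) := by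
    have := congrArg Units.val hu
    rw [Units.val_pow_eq_pow_val, Units.val_neg, Units.val_one] at this
    rw [show Q ^ 2 = Q ^ 2 - 1 + 1 by omega, pow_succ, this, neg_one_mul]
  have hk' : (k : L) ^ Q ^ 2 = k := by
    have := congrArg Units.val hk2
    rw [Units.val_pow_eq_pow_val, Units.val_one] at this
    rw [show Q ^ 2 = Q ^ 2 - 1 + 1 by omega, pow_succ, this, one_mul]
  have hlam' : (S : L) * (lam : L) ^ Q = lam := by
    have := congrArg Units.val hlam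
    rw [Units.val_pow_eq_pow_val] at this
    rw [show Q = Q - 1 + 1 by omega, pow_succ, this, ← mul_assoc, Units.mul_inv, one_mul]
  set Δ : L := (u : L) * (u : L) ^ Q * ((k : L) ^ Q - k) with hΔ
  have hΔ0 : Δ ≠ 0 := mul_ne_zero (mul_ne_zero u.ne_zero (pow_ne_zero _ u.ne_zero)) (sub_ne_zero.2 hk1)
  have hρQ : ∀ x : L, ρ (x ^ Q) = x ^ Q ^ 2 := fun x => by rw [hρ, ← pow_mul, ← pow_two]
  have hΔQ : Δ ^ Q = Δ := by
    rw [← hρ, hΔ, map_mul, map_mul, map_sub, hρQ, hρQ, hρ, hρ, hu', hk']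
    ring
  set k' : L := (k : L) / Δ with hk'def
  have hk'Q : k' ^ Q = (k : L) ^ Q / Δ := by rw [hk'def, div_pow, hΔQ]
  have hSl := hlam'
  have hl0 : (lam : L) ≠ 0 := lam.ne_zero
  have hdet : Matrix.det !![(u : L), k' * lam * u; (u : L) ^ Q / lam, k' ^ Q * (u : L) ^ Q] = 1 := by
    rw [Matrix.det_fin_two_of, hk'Q, hk'def]
    field_simp
    rw [hΔ]
  obtain ⟨a, haM⟩ : ∃ a : SpecialLinearGroup (Fin 2) L,
      a.1 = !![(u : L), k' * lam * u; (u : L) ^ Q / lam, k' ^ Q * (u : L) ^ Q] := ⟨⟨_, hdet⟩, rfl⟩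
  refine ⟨lam, a, ?_⟩
  · have hρk : ρ (k' ^ Q) = k' := by rw [hk'Q, map_div₀, hρQ, hk', hρ, hΔQ, hk'def]
    refine Subtype.ext ?_
    rw [twU_val, Matrix.SpecialLinearGroup.coe_mul, Matrix.SpecialLinearGroup.coe_mul, RankOneRel.antS_val]
    ext i j
    fin_cases i <;> fin_cases j <;>
      simp [Matrix.SpecialLinearGroup.map_apply_coe, Matrix.mul_apply, Fin.sum_univ_two, haM, diagS]
    · rw [hρ]; field_simp
    · rw [hρ, hρ, hρ]
      linear_combination ((k' ^ Q) * (u : L) ^ Q) * hSl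
    · rw [hρ, hρ, ← pow_mul, ← pow_two, hu']
      field_simp
      linear_combination hSl
    · rw [hρ, hρ, ← pow_mul, ← pow_mul, ← pow_two, hu', show k' ^ Q ^ 2 = k' by rw [hk'def, div_pow, hk', pow_two,
        pow_mul, hΔQ, hΔQ]]
      field_simp

end SL2

variable {D : ChevalleyDatum} (hF : Facts D) {L : Type*} [Field L]

/-- The roots are orthogonal in the sense that their root groups commute. -/
def Orth (D : ChevalleyDatum) (r s : ℕ) : Prop :=
  ∀ a b : ℕ, (a = r ∨ a = D.neg r) → (b = s ∨ b = D.neg s) → D.commTerms a b = [] ∧ b ≠ a ∧ b ≠ D.neg a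

/-- The subgroup of a root and its negative. -/
def sub2 (r : ℕ) : Subgroup (GL D.Idx L) :=
  Subgroup.closure (Set.range (hF.xg (F := L) r) ∪ Set.range (hF.xg (D.neg r)))

include hF in
theorem commute_sub2 {r s : ℕ} (hr : r < D.nroots) (hs : s < D.nroots) (h : Orth D r s) {y z : GL D.Idx L}
    (hy : y ∈ sub2 hF r) (hz : z ∈ sub2 hF s) : Commute y z := by
  have key : ∀ a b, (a = r ∨ a = D.neg r) → (b = s ∨ b = D.neg s) → ∀ t u : L,
      Commute (hF.xg a t) (hF.xg b u) := by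
    intro a b ha hb t u
    obtain ⟨h0, h1, h2⟩ := h a b ha hb
    have hal : a < D.nroots := by rcases ha with rfl | rfl <;> [exact hr; exact hF.neg_lt hr]
    have hbl : b < D.nroots := by rcases hb with rfl | rfl <;> [exact hs; exact hF.neg_lt hs]
    have e := (hF.tsys L).x_comm a b hal hbl h1 h2 t u
    rw [hF.tsys_x, hF.tsys_x, ChevalleyDatum.commWord, h0, List.map_nil, List.map_nil, List.prod_nil, mul_one] at e
    exact e.symm
  have h1 : ∀ b, (b = s ∨ b = D.neg s) → ∀ u : L, Commute y (hF.xg b u) := by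
    intro b hb u
    induction hy using Subgroup.closure_induction with
    | mem v hv =>
      rcases hv with ⟨t, rfl⟩ | ⟨t, rfl⟩
      exacts [key _ _ (Or.inl rfl) hb t u, key _ _ (Or.inr rfl) hb t u]
    | one => exact Commute.one_left _
    | mul v w _ _ hv hw => exact hv.mul_left hw
    | inv v _ hv => exact hv.inv_left
  induction hz using Subgroup.closure_induction with
  | mem v hv =>
    rcases hv with ⟨t, rfl⟩ | ⟨t, rfl⟩
    exacts [h1 _ (Or.inl rfl) t, h1 _ (Or.inr rfl) t]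
  | one => exact Commute.one_right _
  | mul v w _ _ hv hw => exact hv.mul_right hw
  | inv v _ hv => exact hv.inv_right

include hF in
theorem torChar_neg (c : Fin D.rank → Lˣ) {s : ℕ} (hs : s < D.nroots) :
    torChar D c (D.neg s) = (torChar D c s)⁻¹ := by
  simp only [torChar, ← Finset.prod_inv_distrib]
  exact Finset.prod_congr rfl fun j _ => by rw [hF.cartan_neg j j.isLt s hs, _root_.zpow_neg]

include hF in
theorem nw_conj_pair (ω : List (Fin D.rank)) (s : Fin D.nroots) : ∃ e : Lˣ, ∀ t,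
    (hF.tsys L).nw ω * hF.xg s.val t * ((hF.tsys L).nw ω)⁻¹ =
      hF.xg (hF.refSys.pr ω • s : Fin D.nroots).val ((e : L) * t) ∧
    (hF.tsys L).nw ω * hF.xg (D.neg s.val) t * ((hF.tsys L).nw ω)⁻¹ =
      hF.xg (D.neg (hF.refSys.pr ω • s : Fin D.nroots).val) (((e⁻¹ : Lˣ) : L) * t) := by
  induction ω with
  | nil => exact ⟨1, fun t => by simp [TorusSys.nw]⟩
  | cons i ω ih =>
    obtain ⟨e, he⟩ := ih
    set s' := (hF.refSys.pr ω • s : Fin D.nroots)
    have hs0 : hF.sgn L i.val s'.val * hF.sgn L i.val s'.val = 1 := hF.sgn_mul_self i.isLt s'.isLt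
    let η : Lˣ := ⟨_, _, hs0, hs0⟩
    refine ⟨η * e, fun t => ⟨?_, ?_⟩⟩
    · have h1 := (hF.tsys L).nS_conj i s'.isLt ((e : L) * t)
      rw [hF.tsys_x, hF.tsys_x] at h1
      rw [TorusSys.nw_cons, RefSystem.pr_cons, mul_smul, show hF.refSys.s i = hF.wS i from rfl, hF.wS_smul]
      rw [show ∀ A B X : GL D.Idx L, A * B * X * (A * B)⁻¹ = A * (B * X * B⁻¹) * A⁻¹ from fun A B X => by group,
        (he t).1, h1, Units.val_mul, mul_assoc]
    · have h1 := (hF.tsys L).nS_conj i (hF.neg_lt s'.isLt) (((e⁻¹ : Lˣ) : L) * t)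
      rw [hF.tsys_x, hF.tsys_x, hF.refl_neg i.val i.isLt s'.val s'.isLt] at h1
      rw [TorusSys.nw_cons, RefSystem.pr_cons, mul_smul, show hF.refSys.s i = hF.wS i from rfl, hF.wS_smul]
      rw [show ∀ A B X : GL D.Idx L, A * B * X * (A * B)⁻¹ = A * (B * X * B⁻¹) * A⁻¹ from fun A B X => by group,
        (he t).2, h1, ← mul_assoc]
      congr 2
      rw [_root_.mul_inv_rev, mul_comm e⁻¹, Units.val_mul]
      congr 1
      show hF.sgn L i.val (D.neg s'.val) = hF.sgn L i.val s'.val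
      simp [Facts.sgn, hF.eta_neg i.val i.isLt s'.val s'.isLt]

/-- The twisted Frobenius. -/
noncomputable def tau (σ : L ≃+* L) (g : GL D.Idx L) : GL D.Idx L →* GL D.Idx L :=
  (MulAut.conj g⁻¹).toMonoidHom.comp (gmap σ.toRingHom)

theorem tau_apply (σ : L ≃+* L) (g y : GL D.Idx L) : tau σ g y = g⁻¹ * gmap σ.toRingHom y * g := by
  simp [tau]

include hF in
theorem tau_pair (σ : L ≃+* L) (ω : List (Fin D.rank)) (t0 : Fin D.rank → Lˣ) (r : Fin D.nroots) :
    ∃ S : Lˣ, ∀ t,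
      tau σ ((hF.tsys L).nw ω * torus D L t0) (hF.xg r.val t) =
        hF.xg ((hF.refSys.pr ω)⁻¹ • r : Fin D.nroots).val ((S : L) * σ t) ∧
      tau σ ((hF.tsys L).nw ω * torus D L t0) (hF.xg (D.neg r.val) t) =
        hF.xg (D.neg ((hF.refSys.pr ω)⁻¹ • r : Fin D.nroots).val) (((S⁻¹ : Lˣ) : L) * σ t) := by
  set s := ((hF.refSys.pr ω)⁻¹ • r : Fin D.nroots) with hs
  obtain ⟨e, he⟩ := nw_conj_pair hF (L := L) ω s
  rw [hs, smul_inv_smul] at he
  refine ⟨(torChar D t0 s.val)⁻¹ * e⁻¹, fun t => ⟨?_, ?_⟩⟩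
  · have h1 := (he (((e⁻¹ : Lˣ) : L) * σ t)).1
    rw [← mul_assoc (e : L), Units.mul_inv, one_mul, mul_inv_eq_iff_eq_mul] at h1
    rw [tau_apply, hF.gmap_xg, RingEquiv.toRingHom_eq_coe, RingEquiv.coe_toRingHom]
    rw [show ((hF.tsys L).nw ω * torus D L t0)⁻¹ * hF.xg r.val (σ t) * ((hF.tsys L).nw ω * torus D L t0) =
      (torus D L t0)⁻¹ * (((hF.tsys L).nw ω)⁻¹ * (hF.xg r.val (σ t) * (hF.tsys L).nw ω)) * torus D L t0 by group,
      ← h1, inv_mul_cancel_left, ← map_inv,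
      show torus D L t0 = (torus D L t0⁻¹)⁻¹ by rw [map_inv, inv_inv], hF.torus_conj _ s.isLt, ← mul_assoc,
      Units.val_mul]
    congr 3
    simp [torChar, _root_.inv_zpow, Finset.prod_inv_distrib]
  · have h1 := (he ((e : L) * σ t)).2
    rw [← mul_assoc ((e⁻¹ : Lˣ) : L), Units.inv_mul, one_mul, mul_inv_eq_iff_eq_mul] at h1
    rw [tau_apply, hF.gmap_xg, RingEquiv.toRingHom_eq_coe, RingEquiv.coe_toRingHom]
    rw [show ((hF.tsys L).nw ω * torus D L t0)⁻¹ * hF.xg (D.neg r.val) (σ t) * ((hF.tsys L).nw ω * torus D L t0) =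
      (torus D L t0)⁻¹ * (((hF.tsys L).nw ω)⁻¹ * (hF.xg (D.neg r.val) (σ t) * (hF.tsys L).nw ω)) * torus D L t0 by
        group,
      ← h1, inv_mul_cancel_left, ← map_inv,
      show torus D L t0 = (torus D L t0⁻¹)⁻¹ by rw [map_inv, inv_inv], hF.torus_conj _ (hF.neg_lt s.isLt), ← mul_assoc,
      torChar_neg hF _ s.isLt, _root_.mul_inv_rev, inv_inv, inv_inv, Units.val_mul, mul_comm (e : L)]
    congr 3
    simp [torChar, _root_.inv_zpow, Finset.prod_inv_distrib]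

include hF in
theorem tau_sub2 (σ : L ≃+* L) (ω : List (Fin D.rank)) (t0 : Fin D.rank → Lˣ) (r : Fin D.nroots) {y : GL D.Idx L}
    (hy : y ∈ sub2 hF r.val) :
    tau σ ((hF.tsys L).nw ω * torus D L t0) y ∈ sub2 hF ((hF.refSys.pr ω)⁻¹ • r : Fin D.nroots).val := by
  obtain ⟨S, hS⟩ := tau_pair hF σ ω t0 r
  induction hy using Subgroup.closure_induction with
  | mem v hv =>
    rcases hv with ⟨t, rfl⟩ | ⟨t, rfl⟩
    · rw [(hS t).1]; exact Subgroup.subset_closure (Or.inl ⟨_, rfl⟩)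
    · rw [(hS t).2]; exact Subgroup.subset_closure (Or.inr ⟨_, rfl⟩)
  | one => rw [map_one]; exact one_mem _
  | mul v w _ _ hv hw => rw [map_mul]; exact mul_mem hv hw
  | inv v _ hv => rw [map_inv]; exact inv_mem hv

include hF in
theorem exists_twist [Fintype L] {q : ℕ} (hq : 2 ≤ q) (hL : Fintype.card L = q ^ 12) (σ : L ≃+* L)
    (hσ : ∀ t, σ t = t ^ q) (ω : List (Fin D.rank)) (t0 : Fin D.rank → Lˣ) (i : Fin D.rank)
    (h12 : ∀ y, (tau σ ((hF.tsys L).nw ω * torus D L t0))^[12] y = y)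
    (hcyc : (hF.refSys.pr ω)⁻¹ • (hF.refSys.pr ω)⁻¹ • (hF.refSys.pr ω)⁻¹ • hF.refSys.α i = hF.refSys.α i)
    (ho1 : Orth D (hF.refSys.α i).val ((hF.refSys.pr ω)⁻¹ • hF.refSys.α i : Fin D.nroots).val)
    (ho2 : Orth D (hF.refSys.α i).val
      ((hF.refSys.pr ω)⁻¹ • (hF.refSys.pr ω)⁻¹ • hF.refSys.α i : Fin D.nroots).val)
    (ho3 : Orth D ((hF.refSys.pr ω)⁻¹ • hF.refSys.α i : Fin D.nroots).val
      ((hF.refSys.pr ω)⁻¹ • (hF.refSys.pr ω)⁻¹ • hF.refSys.α i : Fin D.nroots).val) :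
    ∃ u ∈ D.group L, ∃ m : Lˣ,
      tau σ ((hF.tsys L).nw ω * torus D L t0) u * u⁻¹ =
        torus D L (Pi.mulSingle i m) * (hF.tsys L).nS i := by
  set g := (hF.tsys L).nw ω * torus D L t0
  set τ := tau σ g with hτ
  set w := (hF.refSys.pr ω)⁻¹
  set r0 := hF.refSys.α i with hr0
  obtain ⟨S1, hS1⟩ := tau_pair hF σ ω t0 r0
  obtain ⟨S2, hS2⟩ := tau_pair hF σ ω t0 (w • r0)
  obtain ⟨S3, hS3⟩ := tau_pair hF σ ω t0 (w • w • r0)
  rw [hcyc] at hS3
  set Q := q ^ 3 with hQdef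
  let ρ : L ≃+* L := σ.trans (σ.trans σ)
  have hρ : ∀ t, ρ t = t ^ Q := fun t => by
    show σ (σ (σ t)) = t ^ Q
    rw [hσ, hσ, hσ, ← pow_mul, ← pow_mul, hQdef]
    ring_nf
  let S : Lˣ := S3 * Units.map σ.toRingHom.toMonoidHom (S2 * Units.map σ.toRingHom.toMonoidHom S1)
  have hup : ∀ t, τ (τ (τ (hF.xg r0.val t))) = hF.xg r0.val ((S : L) * ρ t) := fun t => by
    rw [(hS1 t).1, (hS2 _).1, (hS3 _).1]
    congr 1
    simp [S, ρ, map_mul, mul_assoc]
  have hlo : ∀ t, τ (τ (τ (hF.xg (D.neg r0.val) t))) = hF.xg (D.neg r0.val) (((S⁻¹ : Lˣ) : L) * ρ t) := fun t => by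
    rw [(hS1 t).2, (hS2 _).2, (hS3 _).2]
    congr 1
    simp [S, ρ, map_mul, mul_comm, mul_left_comm]
  -- the scalar has norm one
  have hit : ∀ (k : ℕ) (t : L), τ^[3 * k] (hF.xg r0.val t) =
      hF.xg r0.val ((S : L) ^ (∑ j ∈ Finset.range k, Q ^ j) * t ^ Q ^ k) := by
    intro k
    induction k with
    | zero => intro t; simp
    | succ k ih =>
      intro t
      rw [show 3 * (k + 1) = 3 * k + 3 by ring, Function.iterate_add_apply]
      show τ^[3 * k] (τ (τ (τ _))) = _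
      rw [hup, ih, hρ, mul_pow, ← mul_assoc, ← pow_add, ← pow_mul t, ← pow_succ', Finset.sum_range_succ]
  have hS : S ^ ((Q + 1) * (Q ^ 2 + 1)) = 1 := by
    have h1 := hit 4 1
    rw [show 3 * 4 = 12 from rfl, h12, one_pow, mul_one] at h1
    have h2 := hF.xg_inj (Fin.isLt r0) h1
    refine Units.ext ?_
    rw [Units.val_pow_eq_pow_val, Units.val_one, h2]
    congr 1
    simp [Finset.sum_range_succ]
    ring
  have hQ2 : 2 ≤ Q := le_trans hq (Nat.le_self_pow (by norm_num) q)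
  obtain ⟨m, a, ha⟩ := exists_sl2_twist hQ2 (by rw [hL, hQdef, ← pow_mul]) ρ hρ S hS
  set R := hF.rankOneRel_simple (F := L) i.val i.isLt
  set φ := R.hom
  have hcomp : ∀ x, τ (τ (τ (φ x))) = φ (twU S (Matrix.SpecialLinearGroup.map ρ.toRingHom x)) := by
    intro x
    let f1 : SpecialLinearGroup (Fin 2) L →* GL D.Idx L := τ.comp (τ.comp (τ.comp φ))
    let f2 : SpecialLinearGroup (Fin 2) L →* GL D.Idx L :=
      φ.comp ((twU S).comp (Matrix.SpecialLinearGroup.map ρ.toRingHom))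
    suffices h : f1 = f2 from DFunLike.congr_fun h x
    refine MonoidHom.eq_of_eqOn_top ?_
    rw [← closure_up_lo]
    refine MonoidHom.eqOn_closure ?_
    rintro _ (⟨t, rfl⟩ | ⟨t, rfl⟩)
    · show τ (τ (τ (φ (upS t)))) = φ (twU S _)
      have e : twU S (Matrix.SpecialLinearGroup.map ρ.toRingHom (upS t)) = upS ((S : L) * ρ t) := by
        ext a b
        fin_cases a <;> fin_cases b <;>
          simp [twU_val, Matrix.SpecialLinearGroup.map_apply_coe, RankOneRel.upS_val]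
      rw [e, R.hom_up, R.hom_up]
      exact hup t
    · show τ (τ (τ (φ (loS t)))) = φ (twU S _)
      have e : twU S (Matrix.SpecialLinearGroup.map ρ.toRingHom (loS t)) = loS (((S⁻¹ : Lˣ) : L) * ρ t) := by
        ext a b
        fin_cases a <;> fin_cases b <;>
          simp [twU_val, Matrix.SpecialLinearGroup.map_apply_coe, RankOneRel.loS_val]
      rw [e, R.hom_lo, R.hom_lo]
      exact hlo t
  have hzm : ∀ x, φ x ∈ sub2 hF r0.val := fun x => by
    have h1 : φ x ∈ R.hom.range := ⟨x, rfl⟩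
    rw [R.hom_range] at h1
    exact h1
  have hmem : ∀ {r : Fin D.nroots} {y}, y ∈ sub2 (L := L) hF r.val → y ∈ D.group L := fun {r y} hy => by
    refine (Subgroup.closure_le _).2 ?_ hy
    rintro _ (⟨t, rfl⟩ | ⟨t, rfl⟩) <;> exact hF.xg_mem_group _ t
  set z := φ a
  have m0 := hzm a
  have m1 : τ z ∈ sub2 hF (w • r0 : Fin D.nroots).val := tau_sub2 hF σ ω t0 r0 m0
  have m2 : τ (τ z) ∈ sub2 hF (w • w • r0 : Fin D.nroots).val := tau_sub2 hF σ ω t0 _ m1
  have m3 : τ (τ (τ z)) ∈ sub2 hF r0.val := by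
    have := tau_sub2 hF σ ω t0 _ m2
    rwa [hcyc] at this
  have c1 : ∀ {y}, y ∈ sub2 hF r0.val → Commute y (τ z) := fun hy =>
    commute_sub2 hF (Fin.isLt _) (Fin.isLt _) ho1 hy m1
  have c2 : ∀ {y}, y ∈ sub2 hF r0.val → Commute y (τ (τ z)) := fun hy =>
    commute_sub2 hF (Fin.isLt _) (Fin.isLt _) ho2 hy m2
  have c12 : Commute (τ z) (τ (τ z)) := commute_sub2 hF (Fin.isLt _) (Fin.isLt _) ho3 m1 m2
  refine ⟨τ (τ z) * τ z * z, mul_mem (mul_mem (hmem m2) (hmem m1)) (hmem m0), m, ?_⟩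
  have e1 : τ (τ (τ z)) * z⁻¹ = φ (diagS m * antS) := by
    rw [hcomp, ha, map_mul, mul_inv_cancel_right]
  calc τ (τ (τ z) * τ z * z) * (τ (τ z) * τ z * z)⁻¹
      = τ (τ (τ z)) * (τ (τ z) * τ z) * (z⁻¹ * ((τ z)⁻¹ * (τ (τ z))⁻¹)) := by
        rw [map_mul, map_mul]; group
    _ = τ (τ (τ z)) * ((τ (τ z) * τ z) * z⁻¹) * ((τ z)⁻¹ * (τ (τ z))⁻¹) := by group
    _ = τ (τ (τ z)) * (z⁻¹ * (τ (τ z) * τ z)) * ((τ z)⁻¹ * (τ (τ z))⁻¹) := by
        rw [((c2 (inv_mem m0)).mul_right (c1 (inv_mem m0))).eq.symm]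
    _ = τ (τ (τ z)) * z⁻¹ := by group
    _ = _ := by
      rw [e1, map_mul]
      congr 1
      · have h1 := hF.hg_eq_torus (hF.simple_lt i.val i.isLt) m
        have h3 : (Facts.hCoord D (D.simple i.val) m : Fin D.rank → Lˣ) = Pi.mulSingle i m := by
          funext j
          rw [Facts.hCoord, hF.co_simple i.val i.isLt j.val j.isLt]
          by_cases h : j = i
          · subst h; simp
          · rw [if_neg (fun e => h (Fin.ext e)), zpow_zero, Pi.mulSingle_eq_of_ne h]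
        rw [← h3, ← h1]
        show RankOneRel.toFun _ _ _ = _
        rw [hF.hg_eq, hF.ng_eq, hF.ng_eq]
        simp [RankOneRel.toFun, RankOneRel.hh_eq, hF.xg_zero, inv_neg, diagS]
      · show RankOneRel.toFun _ _ (antS : SpecialLinearGroup (Fin 2) L) = _
        rw [hF.tsys_nS, hF.ng_eq]
        simp [RankOneRel.toFun, RankOneRel.nn, RankOneRel.antS_val, hF.xg_zero]

end Cfsg.Agent.Small.SelfCent.E7
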