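import Cfsg.Agent.Lib.Small.SelfCent.Frame

/-!
A torus element on which no root vanishes, even up to a prime divisor of the Weyl group, is centralised
only by the torus.
-/

set_option autoImplicit false
set_option linter.unusedSectionVars false

namespace Cfsg.Agent.Small.SelfCent.E7

open Cfsg.Lie Cfsg.Agent.Lie Cfsg.Agent.Small.ChevInvol Cfsg.Agent.Small.SylowHom Matrix
open scoped MatrixGroups

variable {D : ChevalleyDatum} (hF : Facts D) {L : Type*} [Field L] [Fintype L]

include hF in
theorem torChar_eq_of_torus_eq {a b : Fin D.rank → Lˣ} (h : torus D L a = torus D L b) (s : Fin D.nroots) :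
    torChar D a s.val = torChar D b s.val := by
  have h1 : torus D L (a * b⁻¹) = 1 := by rw [map_mul, map_inv, h, mul_inv_cancel]
  have h2 := (coe_torus_eq_one _).1 h1 s.val s.isLt
  have h3 : ∀ x y : Fin D.rank → Lˣ, torChar D (x * y) s.val = torChar D x s.val * torChar D y s.val := fun x y => by
    simp only [torChar, Pi.mul_apply, _root_.mul_zpow, Finset.prod_mul_distrib]
  rw [h3] at h2
  have h4 : torChar D b⁻¹ s.val = (torChar D b s.val)⁻¹ := by
    simp only [torChar, Pi.inv_apply, _root_.inv_zpow, Finset.prod_inv_distrib]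
  rw [h4, mul_inv_eq_one] at h2
  exact h2

include hF in
theorem centralizer_regular {c : Fin D.rank → Lˣ}
    (hreg : ∀ s : Fin D.nroots, torChar D c s.val ≠ 1)
    (hp : ∀ p : ℕ, p.Prime → p ∣ Nat.card hF.weyl → ∀ s : Fin D.nroots, torChar D c s.val ^ p ≠ 1)
    {g : GL D.Idx L} (hg : g ∈ D.group L)
    (hgc : g * torus D L c = torus D L c * g) : g ∈ (hF.tsys L).H := by
  classical
  let _ := Fintype.ofFinite hF.weyl
  obtain ⟨γ, hγ⟩ := IsCyclic.exists_generator (α := Lˣ)
  choose z hz using fun m => Subgroup.mem_zpowers_iff.1 (hγ (c m))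
  have hc : c = fun m => γ ^ z m := funext fun m => (hz m).symm
  have hval : ∀ s : Fin D.nroots, torChar D c s.val = γ ^ rootVal z s := fun s => by rw [hc, torChar_zpow]
  have hfixw : ∀ w, FixT hF c w → w = 1 := by
    intro w hw
    have hstep : ∀ s, (orderOf γ : ℤ) ∣ rootVal z (w⁻¹ • s) - rootVal z s := by
      obtain ⟨ω, hω⟩ := hF.refSys.exists_word w
      obtain ⟨a', ha', he⟩ := (hF.tsys L).nw_eq hω
      have e : (hF.tsys L).nw ω * torus D L c * ((hF.tsys L).nw ω)⁻¹ = torus D L c := by
        rw [he]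
        calc a' * (hF.tsys L).nW w * torus D L c * (a' * (hF.tsys L).nW w)⁻¹
            = a' * ((hF.tsys L).nW w * torus D L c * ((hF.tsys L).nW w)⁻¹) * a'⁻¹ := by group
          _ = _ := by
            rw [show (hF.tsys L).nW w * torus D L c * ((hF.tsys L).nW w)⁻¹ = torus D L c from hw,
              H_comm hF ha' (torus_mem_H hF c), mul_inv_cancel_right]
      rw [nw_conj hF] at e
      intro s
      have h1 := torChar_act hF ω c s
      rw [torChar_eq_of_torus_eq hF e, hω, hval, hval, zpow_eq_zpow_iff_modEq, Int.modEq_iff_dvd] at h1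
      exact h1
    have hall : ∀ u ∈ Subgroup.zpowers w⁻¹, ∀ s, (orderOf γ : ℤ) ∣ rootVal z (u • s) - rootVal z s := by
      intro a ha
      obtain ⟨k, rfl⟩ := Submonoid.mem_powers_iff a w⁻¹ |>.1
        ((isOfFinOrder_of_finite w⁻¹).mem_powers_iff_mem_zpowers.2 ha)
      induction k with
      | zero => intro t; simp
      | succ k ih =>
        intro t
        have := dvd_add (ih (Subgroup.npow_mem_zpowers w⁻¹ k) (w⁻¹ • t)) (hstep t)
        rwa [← mul_smul, ← pow_succ, sub_add_sub_cancel] at this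
    by_contra hw1
    have hord : orderOf w⁻¹ ≠ 1 := fun h => hw1 (inv_eq_one.1 (orderOf_eq_one_iff.1 h))
    obtain ⟨p, hpp, hpd⟩ := Nat.exists_prime_and_dvd hord
    set u := w⁻¹ ^ (orderOf w⁻¹ / p) with hu
    have huo : orderOf u = p := by
      rw [hu, orderOf_pow_of_dvd (Nat.div_pos (Nat.le_of_dvd (orderOf_pos _) hpd) hpp.pos).ne'
        (Nat.div_dvd_of_dvd hpd), Nat.div_div_self hpd (orderOf_pos _).ne']
    have hu1 : u = 1 := by
      refine eq_one_of_fix_mod hF z (orderOf γ) u (fun s h => ?_)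
        fun s => hall u (Subgroup.npow_mem_zpowers _ _) s
      rw [huo] at h
      refine hp p hpp (hpd.trans (orderOf_dvd_natCard _)) s ?_
      rw [hval, ← zpow_natCast, ← _root_.zpow_mul, mul_comm]
      exact orderOf_dvd_iff_zpow_eq_one.1 h
    rw [hu1, orderOf_one] at huo
    exact hpp.one_lt.ne huo
  have hCu : ∀ {Lst : List ℕ}, ClosedList D Lst → Nat.card (Cu hF c Lst) = 1 := fun {Lst} hL => by
    rw [card_Cu hF c hL, List.filter_eq_nil_iff.2 fun s hs => by
      simpa using hreg ⟨s, (hL.mem_pos s hs).2⟩]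
    simp
  let t : ↥(D.group L) := ⟨torus D L c, hF.torus_mem_group c⟩
  have hcard := card_centralizer hF t c rfl
  rw [hCu hF.closedList_posL, one_mul, Finset.sum_congr rfl fun w _ => hCu (TorusSys.closed_invList w),
    Finset.sum_const, smul_eq_mul, mul_one, show (Finset.univ.filter (FixT hF c)) = {1} from
      Finset.eq_singleton_iff_unique_mem.2 ⟨Finset.mem_filter.2 ⟨Finset.mem_univ _, ?_⟩,
        fun w hw => hfixw w (Finset.mem_filter.1 hw).2⟩, Finset.card_singleton, mul_one] at hcard
  swap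
  · show (hF.tsys L).nW 1 * torus D L c * ((hF.tsys L).nW 1)⁻¹ = torus D L c
    rw [H_comm hF (hF.tsys L).nW_one (torus_mem_H hF c), mul_inv_cancel_right]
  have hle : D.diagonalSubgroup L ≤ D.group L := fun x hx => by
    rw [hF.diagonalSubgroup_eq] at hx
    obtain ⟨e, rfl⟩ := hx
    exact hF.torus_mem_group e
  have hTC : T D L ≤ Subgroup.centralizer ({t} : Set ↥(D.group L)) := fun x hx => by
    rw [Subgroup.mem_centralizer_singleton_iff]
    exact Subtype.ext (H_comm hF ((mem_T hF).1 hx) (torus_mem_H hF c))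
  have heq := Subgroup.eq_of_le_of_card_ge hTC (by
    rw [hcard, hF.tsys_H, T, Nat.card_congr (Subgroup.subgroupOfEquivOfLe hle).toEquiv])
  have hmem : (⟨g, hg⟩ : ↥(D.group L)) ∈ T D L := by
    rw [heq, Subgroup.mem_centralizer_singleton_iff]
    exact Subtype.ext hgc
  exact (mem_T hF).1 hmem

end Cfsg.Agent.Small.SelfCent.E7
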