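import Cfsg.Agent.Lib.Small.SelfCent.E7.Lattice
import Cfsg.Agent.Lib.Lie.WeylE7
import Cfsg.Agent.Lib.Lie.FactsE6

/-!
Tables of E7: coroot vectors, the roots of level one, and the copy of E6.
-/

set_option autoImplicit false
set_option maxRecDepth 100000

namespace Cfsg.Agent.Small.SelfCent.E7

open Cfsg.Lie Cfsg.Agent.Lie Matrix Cfsg.Agent.Small.SylowHom

/-- The roots of E6 among those of E7. -/
def iotaTab : List ℕ :=
  [6, 10, 13, 15, 16, 19, 21, 22, 24, 25, 26, 28, 29, 30, 31, 32, 35, 37, 38, 40, 41, 42, 44, 45, 46, 47, 49, 50,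
    51, 52, 54, 55, 56, 58, 59, 61, 64, 66, 67, 69, 70, 71, 73, 74, 75, 76, 78, 79, 80, 81, 83, 84, 85, 87, 88, 90,
    93, 94, 95, 96, 97, 99, 100, 101, 103, 104, 106, 109, 110, 112, 115, 119]

/-- The embedding of root indices. -/
def iota (r : ℕ) : ℕ := iotaTab.getD r 0

/-- The embedding of fundamental roots. -/
def up (i : Fin chevE6.rank) : Fin chevE7.rank := (show Fin 6 from i).castSucc

theorem iota_lt : ∀ r < 72, iota r < 126 := by decide +kernel

theorem iota_inj : ∀ r < 72, ∀ s < 72, iota r = iota s → r = s := by decide +kernel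

theorem iota_neg : ∀ r < 72, chevE7.neg (iota r) = iota (chevE6.neg r) := by decide +kernel

theorem iota_simple : ∀ i < 6, iota (chevE6.simple i) = chevE7.simple i := by decide +kernel

theorem iota_comm : ∀ r < 72, ∀ s < 72,
    chevE7.commTerms (iota r) (iota s) = (chevE6.commTerms r s).map fun c => (iota c.1, c.2) := by
  have h : ((List.range 72).all fun r => (List.range 72).all fun s => decide
      (chevE7.commTerms (iota r) (iota s) = (chevE6.commTerms r s).map fun c => (iota c.1, c.2))) = true := by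
    decide +kernel
  simp only [List.all_eq_true, List.mem_range, decide_eq_true_eq] at h
  exact h

theorem comm_lt : ∀ r < 72, ∀ s < 72, ∀ c ∈ chevE6.commTerms r s, c.1 < 72 := by decide +kernel

/-- The reflection on coordinates. -/
def sm7 (i : Fin 7) : Matrix (Fin 7) (Fin 7) ℤ :=
  Matrix.of fun m t => (if m = t then 1 else 0) - if m = i then cartanSys chevE7 i t else 0

/-- The reflection on coordinates, for E6. -/
def sm6 (i : Fin 6) : Matrix (Fin 6) (Fin 6) ℤ :=
  Matrix.of fun m t => (if m = t then 1 else 0) - if m = i then cartanSys chevE6 i t else 0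

theorem smat_seven (i : Fin 7) : (smat (D := chevE7) i : Matrix (Fin 7) (Fin 7) ℤ) = sm7 i := by
  funext m t
  exact (smat_apply (D := chevE7) i m t).trans (by
    rfl)

theorem smat_six (i : Fin 6) : (smat (D := chevE6) i : Matrix (Fin 6) (Fin 6) ℤ) = sm6 i := by
  funext m t
  exact (smat_apply (D := chevE6) i m t).trans (by
    rfl)

/-- The coroot vector. -/
def cor (s : ℕ) : Fin 7 → ℤ := fun j => co chevE7 s j.val

theorem cmat_eq : cmat chevE7 = cE7 :=
  (by decide +kernel : (Matrix.of fun i j : Fin 7 => cartanSys chevE7 i j) = cE7)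

theorem cor_refl : ∀ i : Fin 7, ∀ s < 126, ∀ j : Fin 7,
    cor (chevE7.reflectRoot i.val s) j = (sm7 i *ᵥ cor s) j := by decide +kernel

theorem cor_cartan : ∀ m : Fin 7, ∀ s < 126, chevE7.cartan m.val s = (cE7 *ᵥ cor s) m := by decide +kernel

theorem cor_norm : ∀ s < 126, bil (cor s) (cor s) = 2 := by decide +kernel

theorem cor_inj : ∀ r < 126, ∀ s < 126, cor r = cor s → r = s := by decide +kernel

theorem cor_seven : cor (chevE7.simple 6) = e7 := by decide +kernel

theorem descent : ∀ s < 126, cor s 6 = 1 → s ≠ chevE7.simple 6 →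
    ∃ i : Fin 6, chevE7.reflectRoot i.val s < s := by decide +kernel

theorem card_level : ((List.range 126).filter fun s => decide (cor s 6 = 1)).length = 27 := by decide +kernel

/-- The fundamental coweight, doubled. -/
def eLev : Fin 7 → ℤ := ![2, 3, 4, 6, 5, 4, 3]

theorem eLev_fix : ∀ i : Fin 6, sm7 i.castSucc *ᵥ eLev = eLev := by decide +kernel

theorem eLev_norm : bil eLev eLev = 6 := by decide +kernel

theorem smat_row : ∀ (i : Fin 6) (t : Fin 7), sm7 i.castSucc 6 t =
    if t = 6 then 1 else 0 := by decide +kernel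

theorem smat_block (i m t : Fin 6) : sm7 i.castSucc m.castSucc t.castSucc = sm6 i m t := by
  have h : ((List.range 6).all fun a => (List.range 6).all fun b => (List.range 6).all fun c =>
      sm7 (Fin.ofNat 7 a) (Fin.ofNat 7 b) (Fin.ofNat 7 c) == sm6 (Fin.ofNat 6 a) (Fin.ofNat 6 b) (Fin.ofNat 6 c)) =
      true := by decide +kernel
  simp only [List.all_eq_true, List.mem_range, beq_iff_eq] at h
  have h1 := h i i.isLt m m.isLt t t.isLt
  convert h1 using 2 <;> apply Fin.ext <;> simp [Fin.ofNat, Nat.mod_eq_of_lt i.isLt, Nat.mod_eq_of_lt m.isLt,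
    Nat.mod_eq_of_lt t.isLt] <;> omega

theorem orth_comm : ∀ r < 126, ∀ s < 126, bil (cor r) (cor s) = 0 →
    chevE7.commTerms r s = [] ∧ s ≠ r ∧ s ≠ chevE7.neg r := by decide +kernel

theorem cor_neg : ∀ s < 126, ∀ j : Fin 7, cor (chevE7.neg s) j = -cor s j := by decide +kernel

end Cfsg.Agent.Small.SelfCent.E7
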