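import Cfsg.Agent.Lib.Small.SelfCent.E7.Data
import Cfsg.Agent.Lib.Small.SelfCent.MainLift
import Cfsg.Agent.Lib.Lie.MinusculeCerts

/-!
The presented group of type E6 inside that of type E7.
-/

set_option autoImplicit false
set_option linter.unusedSectionVars false

namespace Cfsg.Agent.Small.SelfCent.E7

open Cfsg.Lie Cfsg.Agent.Lie Cfsg.Agent.Small.ChevInvol Cfsg.Agent.Small.SylowHom Matrix
open scoped MatrixGroups

variable {F K : Type*} [Field F] [Field K]

/-- The image of a generator. -/
def embGen (K : Type*) [Field K] (p : Fin chevE6.nroots × K) : chevE7.SteinbergGroup K :=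
  chevE7.stGen K (iota p.1.val) p.2

theorem lift_stX {r : ℕ} (hr : r < 72) (t : K) :
    FreeGroup.lift (embGen K) (chevE6.stX r t) = chevE7.stGen K (iota r) t := by
  unfold ChevalleyDatum.stX
  rw [dif_pos (show r < chevE6.nroots from hr), FreeGroup.lift_apply_of]
  rfl

theorem lift_stWord : ∀ w : List (ℕ × K), (∀ p ∈ w, p.1 < 72) →
    FreeGroup.lift (embGen K) (chevE6.stWord w) = ((w.map fun p => chevE7.stGen K (iota p.1) p.2)).prod := by
  intro w hw
  induction w with
  | nil => simp [ChevalleyDatum.stWord]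
  | cons a w ih =>
    simp only [ChevalleyDatum.stWord, List.map_cons, List.prod_cons, map_mul] at ih ⊢
    rw [lift_stX (hw a (List.mem_cons_self ..)), ih fun p hp => hw p (List.mem_cons_of_mem _ hp)]

theorem mk_stWord7 (w : List (ℕ × K)) :
    PresentedGroup.mk (chevE7.steinbergRels K) (chevE7.stWord w) = (w.map fun p => chevE7.stGen K p.1 p.2).prod := by
  rw [ChevalleyDatum.stWord, map_list_prod, List.map_map]
  rfl

theorem hWord_iota {r : ℕ} (hr : r < 72) (t : K) :
    (chevE6.hWord r t).map (fun p => (iota p.1, p.2)) = chevE7.hWord (iota r) t := by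
  simp [ChevalleyDatum.hWord, ChevalleyDatum.nWord, iota_neg r hr]

theorem commWord_iota {r s : ℕ} (hr : r < 72) (hs : s < 72) (t u : K) :
    (chevE6.commWord K r s t u).map (fun p => (iota p.1, p.2)) = chevE7.commWord K (iota r) (iota s) t u := by
  simp only [ChevalleyDatum.commWord, iota_comm r hr s hs, List.map_map]
  rfl

theorem emb_rels : ∀ g ∈ chevE6.steinbergRels K, FreeGroup.lift (embGen K) g = 1 := by
  have hneg : ∀ r, r < 72 → chevE6.neg r < 72 := fun r hr => factsE6.neg_lt hr
  have hh : ∀ r, r < 72 → ∀ t : K, FreeGroup.lift (embGen K) (chevE6.stH r t) =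
      PresentedGroup.mk (chevE7.steinbergRels K) (chevE7.stH (iota r) t) := by
    intro r hr t
    rw [ChevalleyDatum.stH, lift_stWord, ChevalleyDatum.stH, mk_stWord7, ← hWord_iota hr, List.map_map]
    · rfl
    · intro p hp
      simp only [ChevalleyDatum.hWord, ChevalleyDatum.nWord, List.mem_append, List.mem_cons, List.not_mem_nil,
        or_false] at hp
      rcases hp with (rfl | rfl | rfl) | (rfl | rfl | rfl) <;> first | exact hr | exact hneg r hr
  rintro g ((⟨r, t, u, hr, rfl⟩ | ⟨r, s, t, u, hr, hs, h1, h2, rfl⟩) | ⟨r, t, u, hr, ht, hu, rfl⟩)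
  · simp only [map_mul, map_inv, lift_stX (K := K) hr]
    have h := Facts.st_rel (F := K) (D := chevE7) (Or.inl (Or.inl ⟨iota r, t, u, iota_lt r hr, rfl⟩))
    simp only [map_mul, map_inv] at h
    exact h
  · rw [map_mul, map_mul, map_mul, map_mul, map_inv, map_inv, map_inv, lift_stX hr, lift_stX hs,
      lift_stWord _ (fun p hp => ?_)]
    swap
    · obtain ⟨c, hc, rfl⟩ := List.mem_map.1 hp
      exact comm_lt r hr s hs c hc
    have h := Facts.st_rel (F := K) (D := chevE7) (Or.inl (Or.inr ⟨iota r, iota s, t, u, iota_lt r hr, iota_lt s hs,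
      fun e => h1 (iota_inj s hs r hr e), fun e => h2 (iota_inj s hs _ (hneg r hr) (e.trans (iota_neg r hr))), rfl⟩))
    rw [map_mul, map_mul, map_mul, map_mul, map_inv, map_inv, map_inv, mk_stWord7, ← commWord_iota hr hs,
      List.map_map] at h
    exact h
  · rw [map_mul, map_mul, map_inv, hh r hr, hh r hr, hh r hr]
    have h := Facts.st_rel (F := K) (D := chevE7) (Or.inr ⟨iota r, t, u, iota_lt r hr, ht, hu, rfl⟩)
    simpa only [map_mul, map_inv] using h

/-- The embedding. -/
noncomputable def emb (K : Type*) [Field K] : chevE6.SteinbergGroup K →* chevE7.SteinbergGroup K :=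
  PresentedGroup.toGroup (emb_rels (K := K))

theorem emb_x {r : ℕ} (hr : r < 72) (t : K) : emb K (chevE6.stGen K r t) = chevE7.stGen K (iota r) t := by
  rw [ChevalleyDatum.stGen, ChevalleyDatum.stX, dif_pos (show r < chevE6.nroots from hr)]
  exact PresentedGroup.toGroup.of (emb_rels (K := K))

theorem emb_stMap (f : F →+* K) (z : chevE6.SteinbergGroup F) :
    emb K (stMap factsE6 f z) = stMap factsE7 f (emb F z) := by
  have h : (emb K).comp (stMap factsE6 f) = (stMap factsE7 f).comp (emb F) := st_hom_ext fun r hr t => by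
    rw [MonoidHom.comp_apply, MonoidHom.comp_apply, stMap_x, emb_x hr, emb_x hr, stMap_x]
  exact DFunLike.congr_fun h z

theorem emb_n (i : Fin chevE6.rank) (t : K) :
    emb K ((factsE6.stT minRepE6.full.cert.hyp.1 K).n (chevE6.simple i.val) t) =
      (factsE7.stT minRepE7.full.cert.hyp.1 K).n (chevE7.simple (up i).val) t := by
  have hs : chevE6.simple i.val < 72 := factsE6.simple_lt i i.isLt
  have hn : chevE6.neg (chevE6.simple i.val) < 72 := factsE6.neg_lt hs
  simp only [TorusSys.n, nElt, Facts.stT_x, map_mul, emb_x hs, emb_x hn]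
  rw [← iota_neg _ hs, iota_simple i.val i.isLt]
  rfl

theorem emb_nw (ω : List (Fin chevE6.rank)) :
    emb K ((factsE6.stT minRepE6.full.cert.hyp.1 K).nw ω) =
      (factsE7.stT minRepE7.full.cert.hyp.1 K).nw (ω.map up) := by
  induction ω with
  | nil => simp [TorusSys.nw]
  | cons i ω ih =>
    rw [TorusSys.nw_cons, map_mul, ih, List.map_cons, TorusSys.nw_cons, TorusSys.nS, emb_n]
    rfl

/-- Extension of coordinates. -/
def ext (c : Fin chevE6.rank → Kˣ) : Fin chevE7.rank → Kˣ := fun j =>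
  if h : j.val < 6 then c ⟨j.val, h⟩ else 1

theorem ext_mul (a b : Fin chevE6.rank → Kˣ) : ext (a * b) = ext a * ext b := by
  funext j
  by_cases h : j.val < 6 <;> simp [ext, h]

theorem ext_single (i : Fin chevE6.rank) (u : Kˣ) :
    ext (Pi.mulSingle i u) = (Pi.mulSingle (up i) u : Fin chevE7.rank → Kˣ) := by
  funext j
  by_cases h : j.val < 6
  · by_cases e : j = up i
    · subst e
      rw [ext, dif_pos h, Pi.mulSingle_eq_same]
      exact Pi.mulSingle_eq_same (M := fun _ => Kˣ) i u
    · rw [ext, dif_pos h, Pi.mulSingle_eq_of_ne e, Pi.mulSingle_eq_of_ne]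
      exact fun e' => e (Fin.ext (congrArg Fin.val e' :))
  · rw [ext, dif_neg h, Pi.mulSingle_eq_of_ne]
    intro e
    exact h (by rw [e]; exact i.isLt)

theorem emb_psi {ψ₆ : (Fin chevE6.rank → Kˣ) →* chevE6.SteinbergGroup K}
    (h₆ : ∀ j u, ψ₆ (Pi.mulSingle j u) = (factsE6.stT minRepE6.full.cert.hyp.1 K).h (chevE6.simple j.val) (u : K))
    {ψ₇ : (Fin chevE7.rank → Kˣ) →* chevE7.SteinbergGroup K}
    (h₇ : ∀ j u, ψ₇ (Pi.mulSingle j u) = (factsE7.stT minRepE7.full.cert.hyp.1 K).h (chevE7.simple j.val) (u : K))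
    (c : Fin chevE6.rank → Kˣ) : emb K (ψ₆ c) = ψ₇ (ext c) := by
  let b : (Fin chevE6.rank → Kˣ) →* chevE7.SteinbergGroup K := ψ₇.comp (MonoidHom.mk' ext ext_mul)
  suffices h : (emb K).comp ψ₆ = b from DFunLike.congr_fun h c
  refine MonoidHom.pi_ext fun j u => ?_
  show emb K (ψ₆ (Pi.mulSingle j u)) = ψ₇ (ext (Pi.mulSingle j u))
  rw [h₆, ext_single, h₇, TorusSys.h, map_mul, emb_n, emb_n]
  rfl

end Cfsg.Agent.Small.SelfCent.E7
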