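import Cfsg.Agent.Lib.Small.SelfCent.E7.Level
import Cfsg.Agent.Lib.Small.SelfCent.Kernel
import Cfsg.Agent.Lib.Small.SelfCent.Main

/-!
The fixed coordinates of the twisted torus of E7: the eigenspaces modulo 2 and 3 are lines, and no root
vanishes on them.
-/

set_option autoImplicit false
set_option linter.unusedSectionVars false

namespace Cfsg.Agent.Small.SelfCent.E7

open Cfsg.Lie Cfsg.Agent.Lie Matrix Cfsg.Agent.Small.SylowHom Polynomial

variable (S : Sys)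

theorem dich2 : ∀ a : ZMod 2, ((a ^ 4 - a ^ 2 + 1) * (a ^ 3 + 1) ≠ 0 ∨
    (4 * a ^ 3 - 2 * a) * (a ^ 3 + 1) + (a ^ 4 - a ^ 2 + 1) * (3 * a ^ 2) ≠ 0) ∨
    (a ^ 4 - a ^ 2 + 1) * (a ^ 3 - 1) ≠ 0 := by decide

theorem dich3 : ∀ a : ZMod 3, ((a ^ 4 - a ^ 2 + 1) * (a ^ 3 + 1) ≠ 0 ∨
    (4 * a ^ 3 - 2 * a) * (a ^ 3 + 1) + (a ^ 4 - a ^ 2 + 1) * (3 * a ^ 2) ≠ 0) ∨
    (a ^ 4 - a ^ 2 + 1) * (a ^ 3 - 1) ≠ 0 := by decide

theorem Sys.eval_chi_f {R : Type*} [CommRing R] (a : R) :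
    (S.f.map (Int.castRingHom R)).charpoly.eval a = (a ^ 4 - a ^ 2 + 1) * (a ^ 3 + 1) := by
  rw [Matrix.charpoly_map, S.chi_f, cyclotomic_twelve]
  simp

theorem Sys.eigen_small {p : ℕ} [Fact p.Prime] (hp : p = 2 ∨ p = 3) (a : ZMod p) :
    Module.finrank (ZMod p) ↥(Module.End.eigenspace (Matrix.toLin' (S.f.map (Int.castRingHom (ZMod p)))) a) ≤ 1 := by
  classical
  set P := (S.f.map (Int.castRingHom (ZMod p))).charpoly with hP
  have hdich : ((a ^ 4 - a ^ 2 + 1) * (a ^ 3 + 1) ≠ 0 ∨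
      (4 * a ^ 3 - 2 * a) * (a ^ 3 + 1) + (a ^ 4 - a ^ 2 + 1) * (3 * a ^ 2) ≠ 0) ∨
      (a ^ 4 - a ^ 2 + 1) * (a ^ 3 - 1) ≠ 0 := by
    rcases hp with rfl | rfl
    · exact dich2 a
    · exact dich3 a
  rcases hdich with h | h
  · refine (LinearMap.finrank_eigenspace_le _ a).trans ?_
    rw [Matrix.charpoly_toLin']
    by_contra hlt
    push Not at hlt
    have hne : P ≠ 0 := (Matrix.charpoly_monic _).ne_zero
    obtain ⟨h1, h2⟩ := (one_lt_rootMultiplicity_iff_isRoot hne).1 hlt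
    rcases h with h | h
    · exact h (by rw [← S.eval_chi_f a]; exact h1)
    · refine h ?_
      rw [IsRoot.def, hP, Matrix.charpoly_map, S.chi_f, cyclotomic_twelve] at h2
      simp [derivative_mul] at h2
      linear_combination h2
  · set g : Matrix (Fin 7) (Fin 7) (ZMod p) := S.f.map (Int.castRingHom (ZMod p)) with hg
    set A : Matrix (Fin 7) (Fin 7) (ZMod p) := S.M.map (Int.castRingHom (ZMod p)) with hA
    let φ := (Int.castRingHom (ZMod p)).mapMatrix (m := Fin 7)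
    set l : Fin 7 → ZMod p := fun i => ((cE7 *ᵥ e7) i : ZMod p) with hl
    set e : Fin 7 → ZMod p := fun i => ((S.M *ᵥ e7) i : ZMod p) with he
    have hgA : g = A - vecMulVec e l := by
      have e1 : S.f = S.M - vecMulVec (S.M *ᵥ e7) (cE7 *ᵥ e7) := by
        refine Matrix.ext_of_mulVec_single fun i => ?_
        rw [sub_mulVec, S.f_apply, vecMulVec_mulVec,
          show bil e7 (Pi.single i 1) = (cE7 *ᵥ e7) ⬝ᵥ Pi.single i 1 by rw [bil_comm, bil, dotProduct_comm],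
          op_smul_eq_smul]
      rw [hg, e1, hA]
      ext i j
      simp [vecMulVec, e, l]
    let E := Module.End.eigenspace (Matrix.toLin' g) a
    let L : E →ₗ[ZMod p] ZMod p :=
      { toFun := fun z => l ⬝ᵥ (z : Fin 7 → ZMod p)
        map_add' := fun x y => by simp [dotProduct_add]
        map_smul' := fun c x => by simp [dotProduct_smul] }
    have hinj : Function.Injective L := by
      rw [← LinearMap.ker_eq_bot, eq_bot_iff]
      rintro ⟨z, hz⟩ h0
      have h0' : l ⬝ᵥ z = 0 := h0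
      rw [Module.End.mem_eigenspace_iff, Matrix.toLin'_apply, hgA, sub_mulVec, vecMulVec_mulVec, h0',
        op_smul_eq_smul, zero_smul, sub_zero] at hz
      refine Submodule.mem_bot _ |>.2 (Subtype.ext ?_)
      by_contra hne
      refine h ?_
      have hdet : (scalar (Fin 7) a - A).det = 0 := Matrix.exists_mulVec_eq_zero_iff.1 ⟨z, hne, by
        rw [sub_mulVec, hz, scalar_apply, sub_eq_zero]
        funext i
        simp [mulVec_diagonal]⟩
      rw [← Matrix.eval_charpoly, hA, Matrix.charpoly_map, S.chi, cyclotomic_twelve] at hdet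
      simpa using hdet
    exact (LinearMap.finrank_le_finrank_of_injective hinj).trans (Module.finrank_self _).le

variable {L : Type*} [Field L] [Fintype L]

theorem rootVal_cor (z : Fin 7 → ℤ) (s : Fin chevE7.nroots) :
    rootVal (D := chevE7) z s = bil (cor s.val) z := by
  rw [bil_comm, bil]
  show ∑ m, z m * chevE7.cartan m.val s.val = ∑ m, z m * (cE7 *ᵥ cor s.val) m
  exact Finset.sum_congr rfl fun m _ => congrArg (z m * ·) (cor_cartan m s.val s.isLt)

theorem torChar_ne {q : ℕ} (hq : 2 ≤ q) (hL : Fintype.card L = q ^ 12) {M : Matrix (Fin 7) (Fin 7) ℤ} (hMf : M = S.f)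
    {e0 : kerT (D := chevE7) (L := L) M q} (hgen : ∀ e, e ∈ Subgroup.zpowers e0) {p : ℕ}
    (hcop : IsCoprime ((q : ℤ) ^ 4 - (q : ℤ) ^ 2 + 1) (p : ℤ)) (hp0 : 0 < p) (hp7 : p ≤ 7)
    (hp9 : q = 2 → ¬ 9 ∣ 2 * p) (s : Fin chevE7.nroots) :
    torChar chevE7 (e0.1 : Fin chevE7.rank → Lˣ) s.val ^ p ≠ 1 := by
  intro h1
  obtain ⟨γ, hγ⟩ := IsCyclic.exists_generator (α := Lˣ)
  set N : ℤ := (q : ℤ) ^ 12 - 1 with hN
  have hQ : (orderOf γ : ℤ) = N := by
    have h1 : 1 ≤ Fintype.card L := Fintype.card_pos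
    rw [orderOf_eq_card_of_forall_mem_zpowers hγ, Nat.card_units, Nat.card_eq_fintype_card, hL,
      Nat.cast_sub (hL ▸ h1), Nat.cast_pow, Nat.cast_one]
  set Sc : Matrix (Fin 7) (Fin 7) ℤ := scalar (Fin 7) (q : ℤ) with hSc
  set A : Matrix (Fin 7) (Fin 7) ℤ := Sc - S.f with hA
  set B := ∑ i ∈ Finset.range 12, Sc ^ i * S.f ^ (12 - 1 - i) with hB
  have hcomm : Commute Sc S.f := scalar_commute _ (fun r => Commute.all _ r) S.f
  have hSd : Sc ^ 12 - S.f ^ 12 = scalar (Fin 7) N := by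
    rw [S.pow_twelve, hSc, ← map_pow, hN, map_sub, map_one]
  have hAB : A * B = scalar (Fin 7) N := by rw [hA, hB, hcomm.mul_geom_sum₂, hSd]
  have hBA : B * A = scalar (Fin 7) N := by rw [hA, hB, hcomm.geom_sum₂_mul, hSd]
  have hscal : ∀ z : Fin 7 → ℤ, scalar (Fin 7) N *ᵥ z = N • z := fun z => funext fun m => by
    simp [scalar_apply, mulVec_diagonal]
  have hmul : ∀ a b : Fin chevE7.rank → Lˣ,
      torChar chevE7 (a * b) s.val = torChar chevE7 a s.val * torChar chevE7 b s.val := fun a b => by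
    simp only [torChar, Pi.mul_apply, _root_.mul_zpow, Finset.prod_mul_distrib]
  let χ : kerT (D := chevE7) (L := L) M q →* Lˣ :=
    MonoidHom.mk' (fun e => torChar chevE7 e.1 s.val ^ p) fun a b => by
      rw [Subgroup.coe_mul, hmul, mul_pow]
  have hall : ∀ e, χ e = 1 := fun e => by
    obtain ⟨k, rfl⟩ := Subgroup.mem_zpowers_iff.1 (hgen e)
    rw [map_zpow, show χ e0 = 1 from h1, _root_.one_zpow]
  set x := cor s.val
  have hBmem : ∀ v : Fin 7 → ℤ, (fun m : Fin chevE7.rank => γ ^ (B *ᵥ v) m) ∈ kerT (D := chevE7) M q := fun v => by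
    suffices H : ∀ m : Fin 7, N ∣ (q : ℤ) * (B *ᵥ v) m - (M *ᵥ (B *ᵥ v)) m from
      (mem_kerT_zpow (D := chevE7) M q γ (B *ᵥ v)).2 fun m => hQ ▸ H m
    intro m
    have h := congrFun (congrArg (fun X => X *ᵥ v) hAB) m
    rw [← mulVec_mulVec, hA, sub_mulVec, Pi.sub_apply] at h
    simp only [hSc, scalar_apply, mulVec_diagonal] at h
    subst hMf
    exact ⟨v m, h⟩
  have hdiv : ∀ v, N ∣ (p : ℤ) * bil x (B *ᵥ v) := fun v => by
    have h := hall ⟨_, hBmem v⟩
    change torChar chevE7 (fun m : Fin chevE7.rank => γ ^ (B *ᵥ v) m) s.val ^ p = 1 at h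
    have e := torChar_zpow (D := chevE7) γ (B *ᵥ v) s
    have h2 : (γ ^ rootVal (D := chevE7) (B *ᵥ v) s) ^ p = 1 := (congrArg (· ^ p) e).symm.trans h
    rw [← zpow_natCast, ← _root_.zpow_mul, ← orderOf_dvd_iff_zpow_eq_one, hQ, mul_comm] at h2
    exact (rootVal_cor (B *ᵥ v) s) ▸ h2
  choose y hy using fun j : Fin 7 => hdiv (Pi.single j 1)
  have hN0 : N ≠ 0 := hQ ▸ (by exact_mod_cast (orderOf_pos γ).ne')
  have hlin : ∀ w, (p : ℤ) * bil x (B *ᵥ w) = N * (y ⬝ᵥ w) := by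
    intro w
    have hw : w = ∑ j, w j • (Pi.single j 1 : Fin 7 → ℤ) := pi_eq_sum_univ' w
    conv_lhs => rw [hw]
    simp only [mulVec_sum, mulVec_smul, bil, dotProduct_sum, dotProduct_smul, smul_eq_mul, Finset.mul_sum]
    refine (Finset.sum_congr rfl fun j _ => ?_).trans (Finset.mul_sum _ _ _).symm
    have := hy j
    rw [bil] at this
    rw [mul_left_comm, this]
    ring
  refine no_killed S hq hcop hp0 hp7 hp9 (cor_norm s.val s.isLt) ⟨y, fun v => mul_left_cancel₀ hN0 ?_⟩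
  have e1 : (q : ℤ) • v - S.f *ᵥ v = A *ᵥ v := by
    rw [hA, sub_mulVec, hSc]
    congr 1
    funext i
    simp [mulVec_diagonal]
  rw [e1, ← hlin, mulVec_mulVec, hBA, hscal, bil_smul_right]
  ring

end Cfsg.Agent.Small.SelfCent.E7
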