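import Cfsg.Agent.Lib.Small.SylowHom.Exceptions
import Cfsg.Agent.Lib.Small.SelfCent.E6

/-!
The root lattice of E7 with an isometry which cycles three orthogonal roots, composed with the reflection
in one of them: no root vector is killed, even up to a small prime, by the torus it twists.
-/

set_option autoImplicit false
set_option linter.unusedSectionVars false

namespace Cfsg.Agent.Small.SelfCent.E7

open Polynomial Matrix Cfsg.Agent.Small.SylowHom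

/-- The form. -/
def bil (x y : Fin 7 → ℤ) : ℤ := x ⬝ᵥ (cE7 *ᵥ y)

theorem bil_comm (x y : Fin 7 → ℤ) : bil x y = bil y x := by
  rw [bil, bil, dotProduct_mulVec, ← mulVec_transpose, dotProduct_comm,
    show cE7ᵀ = cE7 from adj_seven.2.2.1]

theorem bil_add_right (x y z : Fin 7 → ℤ) : bil x (y + z) = bil x y + bil x z := by
  simp [bil, mulVec_add, dotProduct_add]

theorem bil_sub_right (x y z : Fin 7 → ℤ) : bil x (y - z) = bil x y - bil x z := by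
  simp [bil, mulVec_sub, dotProduct_sub]

theorem bil_smul_right (a : ℤ) (x y : Fin 7 → ℤ) : bil x (a • y) = a * bil x y := by
  rw [bil, bil, mulVec_smul, dotProduct_smul, smul_eq_mul]

theorem bil_neg_right (x y : Fin 7 → ℤ) : bil x (-y) = -bil x y := by
  simp [bil, mulVec_neg, dotProduct_neg]

theorem bil_add_left (x y z : Fin 7 → ℤ) : bil (x + y) z = bil x z + bil y z := by
  simp [bil, add_dotProduct]

theorem bil_sub_left (x y z : Fin 7 → ℤ) : bil (x - y) z = bil x z - bil y z := by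
  simp [bil, sub_dotProduct]

theorem bil_smul_left (a : ℤ) (x y : Fin 7 → ℤ) : bil (a • x) y = a * bil x y := by
  rw [bil, bil, smul_dotProduct, smul_eq_mul]

theorem bil_zero_right (x : Fin 7 → ℤ) : bil x 0 = 0 := by simp [bil]

theorem bil_nonneg (x : Fin 7 → ℤ) : 0 ≤ bil x x := by
  rcases eq_or_ne x 0 with rfl | h
  · simp [bil]
  · exact (pos_seven x h).le

theorem eq_zero_of_bil (x : Fin 7 → ℤ) (h : bil x x = 0) : x = 0 := by
  by_contra hx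
  exact (pos_seven x hx).ne' h

theorem bil_bound {x y : Fin 7 → ℤ} (hx : bil x x = 2) (hy : bil y y = 2) :
    -2 ≤ bil x y ∧ bil x y ≤ 2 := by
  have h1 := bil_nonneg (x + y)
  have h2 := bil_nonneg (x - y)
  rw [bil_add_left, bil_add_right, bil_add_right, bil_comm y x, hx, hy] at h1
  rw [bil_sub_left, bil_sub_right, bil_sub_right, bil_comm y x, hx, hy] at h2
  omega

theorem eq_neg_of_bil {x y : Fin 7 → ℤ} (hx : bil x x = 2) (hy : bil y y = 2) (h : bil x y = -2) :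
    y = -x := by
  have h1 : bil (x + y) (x + y) = 0 := by
    rw [bil_add_left, bil_add_right, bil_add_right, bil_comm y x, hx, hy, h]; norm_num
  exact eq_neg_of_add_eq_zero_right (eq_zero_of_bil _ h1)

theorem four_squares : ∀ a ∈ Finset.Icc (-2 : ℤ) 2, ∀ b ∈ Finset.Icc (-2 : ℤ) 2, ∀ c ∈ Finset.Icc (-2 : ℤ) 2,
    a * a + b * b + c * c = 4 → (b = 0 ∧ c = 0 ∧ (a = 2 ∨ a = -2)) ∨ (a = 0 ∧ c = 0 ∧ (b = 2 ∨ b = -2)) ∨
      (a = 0 ∧ b = 0 ∧ (c = 2 ∨ c = -2)) := by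
  decide

/-- The seventh fundamental root. -/
def e7 : Fin 7 → ℤ := Pi.single 6 1

theorem bil_e7 : bil e7 e7 = 2 := by decide

/-- An isometry cycling three orthogonal roots, and the reflection. -/
structure Sys where
  M : Matrix (Fin 7) (Fin 7) ℤ
  R : Matrix (Fin 7) (Fin 7) ℤ
  form : Mᵀ * cE7 * M = cE7
  cube : M *ᵥ (M *ᵥ (M *ᵥ e7)) = e7
  orth1 : bil e7 (M *ᵥ e7) = 0
  orth2 : bil e7 (M *ᵥ (M *ᵥ e7)) = 0
  chi : M.charpoly = cyclotomic 12 ℤ * (X ^ 3 - 1)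
  refl : ∀ x, R *ᵥ x = x - bil e7 x • e7

variable (S : Sys)

/-- The product. -/
def Sys.f : Matrix (Fin 7) (Fin 7) ℤ := S.M * S.R

theorem Sys.bil_M (x y : Fin 7 → ℤ) : bil (S.M *ᵥ x) (S.M *ᵥ y) = bil x y := by
  have e : (S.M *ᵥ x) ⬝ᵥ (cE7 *ᵥ (S.M *ᵥ y)) = x ⬝ᵥ ((S.Mᵀ * cE7 * S.M) *ᵥ y) := by
    rw [← mulVec_mulVec, ← mulVec_mulVec, dotProduct_mulVec x, vecMul_transpose]
  rw [bil, e, S.form]
  rfl

theorem Sys.f_apply (x : Fin 7 → ℤ) : S.f *ᵥ x = S.M *ᵥ x - bil e7 x • (S.M *ᵥ e7) := by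
  rw [Sys.f, ← mulVec_mulVec, S.refl, mulVec_sub, mulVec_smul]

theorem Sys.bil_f (x y : Fin 7 → ℤ) : bil (S.f *ᵥ x) (S.f *ᵥ y) = bil x y := by
  simp only [Sys.f, ← mulVec_mulVec, S.bil_M, S.refl, bil_sub_left, bil_sub_right, bil_smul_left, bil_smul_right,
    bil_e7, bil_comm x e7]
  ring

theorem Sys.f_e0 : S.f *ᵥ e7 = -(S.M *ᵥ e7) := by
  rw [S.f_apply, bil_e7, two_smul]; abel

theorem Sys.f_e1 : S.f *ᵥ (S.M *ᵥ e7) = S.M *ᵥ (S.M *ᵥ e7) := by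
  rw [S.f_apply, S.orth1, zero_smul, sub_zero]

theorem Sys.f_e2 : S.f *ᵥ (S.M *ᵥ (S.M *ᵥ e7)) = e7 := by
  rw [S.f_apply, S.orth2, zero_smul, sub_zero, S.cube]

/-- Cubing the eigenvalue equation. -/
theorem Sys.chi_f : S.f.charpoly = cyclotomic 12 ℤ * (X ^ 3 + 1) := by
  refine Polynomial.eq_of_infinite_eval_eq _ _ (Set.Infinite.mono (s := Set.Ioi (1 : ℤ)) ?_ (Set.Ioi_infinite _))
  intro t ht
  have ht1 : (1 : ℤ) < t := ht
  show S.f.charpoly.eval t = _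
  have ht3 : ((t : ℚ) ^ 3 - 1) ≠ 0 := by
    have : (1 : ℚ) < t := by exact_mod_cast ht1
    nlinarith [mul_pos (show (0 : ℚ) < t by linarith) (show (0 : ℚ) < t by linarith)]
  let φ := (Int.castRingHom ℚ).mapMatrix (m := Fin 7)
  let cast : (Fin 7 → ℤ) → Fin 7 → ℚ := fun x i => (x i : ℚ)
  have hcast : ∀ (A : Matrix (Fin 7) (Fin 7) ℤ) x, φ A *ᵥ cast x = cast (A *ᵥ x) := fun A x => by
    funext i
    simp [φ, cast, mulVec, dotProduct]
  set A : Matrix (Fin 7) (Fin 7) ℚ := φ (scalar (Fin 7) t - S.M) with hA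
  set a : Fin 7 → ℚ := ((t : ℚ) ^ 3 - 1)⁻¹ •
    cast (t ^ 2 • (S.M *ᵥ e7) + t • (S.M *ᵥ (S.M *ᵥ e7)) + e7) with ha
  have h1 : A *ᵥ a = cast (S.M *ᵥ e7) := by
    rw [ha, mulVec_smul, hA, hcast, sub_mulVec]
    have e : (scalar (Fin 7) t) *ᵥ (t ^ 2 • (S.M *ᵥ e7) + t • (S.M *ᵥ (S.M *ᵥ e7)) + e7) -
        S.M *ᵥ (t ^ 2 • (S.M *ᵥ e7) + t • (S.M *ᵥ (S.M *ᵥ e7)) + e7) = (t ^ 3 - 1) • (S.M *ᵥ e7) := by
      rw [mulVec_add, mulVec_add S.M, mulVec_add, mulVec_add S.M, mulVec_smul S.M, mulVec_smul S.M, S.cube]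
      funext i
      simp only [scalar_apply, mulVec_diagonal, Pi.add_apply, Pi.sub_apply, Pi.smul_apply, smul_eq_mul]
      ring
    rw [e]
    funext i
    simp only [cast, Pi.smul_apply, smul_eq_mul]
    push_cast
    field_simp
  let l : Fin 7 → ℚ := cast (cE7 *ᵥ e7)
  have hl : ∀ x, l ⬝ᵥ cast x = (bil e7 x : ℚ) := fun x => by
    rw [bil_comm, bil, dotProduct_comm x]
    simp [l, cast, dotProduct]
  have hB : φ (scalar (Fin 7) t - S.f) = A * (1 + replicateCol Unit a * replicateRow Unit l) := by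
    rw [mul_add, mul_one, ← Matrix.mul_assoc, ← replicateCol_mulVec, h1, hA]
    have e : scalar (Fin 7) t - S.f = scalar (Fin 7) t - S.M + vecMulVec (S.M *ᵥ e7) (cE7 *ᵥ e7) := by
      refine Matrix.ext_of_mulVec_single fun i => ?_
      rw [add_mulVec, sub_mulVec, sub_mulVec, S.f_apply, vecMulVec_mulVec]
      rw [show bil e7 (Pi.single i 1) = (cE7 *ᵥ e7) ⬝ᵥ Pi.single i 1 by rw [bil_comm, bil, dotProduct_comm]]
      simp only [op_smul_eq_smul]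
      abel
    rw [e, map_add]
    congr 1
    ext i j
    simp [φ, l, cast, vecMulVec, replicateCol, replicateRow, Matrix.mul_apply]
  have h2 := congrArg Matrix.det hB
  rw [Matrix.det_mul, Matrix.det_one_add_replicateCol_mul_replicateRow, hA, ← RingHom.map_det, ← RingHom.map_det,
    ← eval_charpoly, ← eval_charpoly, S.chi, ha, dotProduct_smul, hl, bil_add_right, bil_add_right, bil_smul_right,
    bil_smul_right, S.orth1, S.orth2, bil_e7, smul_eq_mul] at h2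
  simp only [eval_mul, eval_sub, eval_add, eval_pow, eval_X, eval_one, eq_intCast, Int.cast_mul, Int.cast_sub,
    Int.cast_add, Int.cast_pow, Int.cast_one, Int.cast_ofNat, Int.cast_zero, mul_zero, zero_add] at h2 ⊢
  have h3 : ((S.f.charpoly.eval t : ℤ) : ℚ) = (((cyclotomic 12 ℤ).eval t : ℤ) : ℚ) * ((t : ℚ) ^ 3 + 1) := by
    rw [h2]
    field_simp
    ring
  exact_mod_cast h3

theorem Sys.pow_twelve : S.f ^ 12 = 1 := by
  have hd : S.f.charpoly ∣ (X : ℤ[X]) ^ 12 - 1 := ⟨(X ^ 2 + 1) * (X ^ 3 - 1), by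
    rw [S.chi_f, cyclotomic_twelve]; ring⟩
  obtain ⟨g, hg⟩ := hd
  have h := congrArg (aeval S.f) hg
  rw [map_mul, aeval_self_charpoly, zero_mul, map_sub, map_pow, aeval_X, map_one, sub_eq_zero] at h
  exact h

theorem Sys.bil_pow (k : ℕ) (x y : Fin 7 → ℤ) : bil (S.f ^ k *ᵥ x) (S.f ^ k *ᵥ y) = bil x y := by
  induction k with
  | zero => simp
  | succ k ih => rw [pow_succ', ← mulVec_mulVec, ← mulVec_mulVec, S.bil_f, ih]

/-- The root is killed up to p. -/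
def Killed (q p : ℕ) (x : Fin 7 → ℤ) : Prop :=
  ∃ y : Fin 7 → ℤ, ∀ v, (p : ℤ) * bil x v = y ⬝ᵥ ((q : ℤ) • v - S.f *ᵥ v)

theorem phi_f (x : Fin 7 → ℤ) :
    aeval S.f (cyclotomic 12 ℤ) *ᵥ x = S.f ^ 4 *ᵥ x - S.f ^ 2 *ᵥ x + x := by
  rw [cyclotomic_twelve, map_add, map_sub, map_pow, map_pow, aeval_X, map_one, add_mulVec, sub_mulVec, one_mulVec]

theorem no_killed_six {q p : ℕ} (hq : 2 ≤ q) (hcop : IsCoprime ((q : ℤ) ^ 4 - (q : ℤ) ^ 2 + 1) (p : ℤ))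
    {x : Fin 7 → ℤ} (hx : bil x x = 2) (h6 : S.f ^ 6 *ᵥ x = -x) : ¬ Killed S q p x := by
  rintro ⟨y, hy⟩
  have hflip : ∀ k, k ≤ 6 → bil x (S.f ^ (6 - k) *ᵥ x) = -bil x (S.f ^ k *ᵥ x) := by
    intro k hk
    have h1 := S.bil_pow k x (S.f ^ (6 - k) *ᵥ x)
    rw [mulVec_mulVec, ← pow_add, show k + (6 - k) = 6 by omega, h6, bil_neg_right, bil_comm] at h1
    exact h1.symm
  set a1 := bil x (S.f ^ 1 *ᵥ x)
  set a2 := bil x (S.f ^ 2 *ᵥ x)
  set a3 := bil x (S.f ^ 3 *ᵥ x)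
  have h3 : a3 = 0 := by
    have := hflip 3 (by norm_num)
    rw [show 6 - 3 = 3 by norm_num] at this
    change a3 = -a3 at this
    omega
  have h0 := aeval_self_charpoly S.f
  rw [S.chi_f, cyclotomic_twelve] at h0
  simp only [map_mul, map_add, map_sub, map_pow, aeval_X, map_one] at h0
  have h0' := congrArg (fun A : Matrix (Fin 7) (Fin 7) ℤ => bil x (A *ᵥ x)) h0
  rw [show (S.f ^ 4 - S.f ^ 2 + 1) * (S.f ^ 3 + 1) =
    S.f ^ 7 + S.f ^ 4 - S.f ^ 5 - S.f ^ 2 + S.f ^ 3 + 1 by noncomm_ring] at h0'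
  simp only [add_mulVec, sub_mulVec, one_mulVec, zero_mulVec, bil_add_right, bil_sub_right, bil_zero_right, hx] at h0'
  have h7 : bil x (S.f ^ 7 *ᵥ x) = -a1 := by
    rw [show S.f ^ 7 = S.f ^ 1 * S.f ^ 6 from (pow_add S.f 1 6), ← mulVec_mulVec, h6, mulVec_neg, bil_neg_right]
  have h4 : bil x (S.f ^ 4 *ᵥ x) = -a2 := hflip 2 (by norm_num)
  have h5 : bil x (S.f ^ 5 *ᵥ x) = -a1 := hflip 1 (by norm_num)
  rw [h7, h4, h5] at h0'
  change -a1 + -a2 - -a1 - a2 + a3 + 2 = 0 at h0'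
  have ha2 : a2 = 1 := by omega
  have hb : -2 ≤ a1 ∧ a1 ≤ 2 := bil_bound hx ((S.bil_pow 1 x x).trans hx)
  -- the value at the adjugate
  set u := S.f ^ 4 *ᵥ x - S.f ^ 2 *ᵥ x + x with hu
  have hu0 : u = 0 := by
    have e2 : S.f ^ 2 *ᵥ u + u = 0 := by
      rw [hu, mulVec_add, mulVec_sub, mulVec_mulVec, mulVec_mulVec, ← pow_add, ← pow_add, h6]
      abel
    have e3 : S.f ^ 3 *ᵥ u + u = 0 := by
      rw [hu]
      have h0'' := congrArg (fun A : Matrix (Fin 7) (Fin 7) ℤ => A *ᵥ x) h0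
      rw [show (S.f ^ 4 - S.f ^ 2 + 1) * (S.f ^ 3 + 1) =
        (S.f ^ 3 * (S.f ^ 4 - S.f ^ 2 + 1)) + (S.f ^ 4 - S.f ^ 2 + 1) by noncomm_ring] at h0''
      simpa only [add_mulVec, sub_mulVec, one_mulVec, zero_mulVec, ← mulVec_mulVec] using h0''
    have e4 := congrArg (fun z => S.f *ᵥ z) e2
    simp only [mulVec_add, mulVec_zero, mulVec_mulVec, ← pow_succ'] at e4
    -- f u = u
    have e5 : S.f *ᵥ u = u := by
      rw [eq_neg_of_add_eq_zero_left e3, neg_add_eq_zero] at e4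
      exact e4.symm
    rw [pow_two, ← mulVec_mulVec, e5, e5] at e2
    funext i
    have := congrFun e2 i
    simp only [Pi.add_apply, Pi.zero_apply] at this ⊢
    omega
  set Q : ℤ := (q : ℤ) with hQ
  set v := S.f ^ 3 *ᵥ x + Q • (S.f ^ 2 *ᵥ x) + (Q ^ 2 - 1) • (S.f ^ 1 *ᵥ x) + (Q * (Q ^ 2 - 1)) • x with hv
  have hAv : Q • v - S.f *ᵥ v = (Q ^ 4 - Q ^ 2 + 1) • x := by
    have e : Q • v - S.f *ᵥ v = (Q ^ 4 - Q ^ 2 + 1) • x - u := by
      rw [hv, hu]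
      simp only [mulVec_add, mulVec_smul, mulVec_mulVec, pow_one, ← pow_succ', ← pow_two]
      funext i
      simp only [Pi.add_apply, Pi.sub_apply, Pi.smul_apply, smul_eq_mul]
      ring
    rw [e, hu0, sub_zero]
  have h1 := hy v
  rw [hAv, hv, bil_add_right, bil_add_right, bil_add_right, bil_smul_right, bil_smul_right, bil_smul_right, hx,
    dotProduct_smul, smul_eq_mul] at h1
  change (p : ℤ) * (a3 + Q * a2 + (Q ^ 2 - 1) * a1 + Q * (Q ^ 2 - 1) * 2) = _ at h1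
  rw [h3, ha2] at h1
  have hdvd : Q ^ 4 - Q ^ 2 + 1 ∣ Q + (Q ^ 2 - 1) * a1 + Q * (Q ^ 2 - 1) * 2 := by
    refine hcop.dvd_of_dvd_mul_left ⟨y ⬝ᵥ x, ?_⟩
    rw [← h1]; ring
  have hQ2 : 2 ≤ Q := by rw [hQ]; exact_mod_cast hq
  rcases eq_or_lt_of_le hQ2 with h2 | h2
  · rw [← h2] at hdvd
    norm_num at hdvd
    obtain ⟨k, hk⟩ := hdvd
    omega
  · have hpos : 0 < Q + (Q ^ 2 - 1) * a1 + Q * (Q ^ 2 - 1) * 2 := by
      nlinarith [mul_le_mul_of_nonneg_left hb.1 (show 0 ≤ Q ^ 2 - 1 by nlinarith)]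
    have hle := Int.le_of_dvd hpos hdvd
    nlinarith [mul_le_mul_of_nonneg_left hb.2 (show 0 ≤ Q ^ 2 - 1 by nlinarith)]

set_option maxHeartbeats 1000000 in
theorem no_killed {q p : ℕ} (hq : 2 ≤ q) (hcop : IsCoprime ((q : ℤ) ^ 4 - (q : ℤ) ^ 2 + 1) (p : ℤ))
    (hp0 : 0 < p) (hp7 : p ≤ 7) (hp9 : q = 2 → ¬ 9 ∣ 2 * p) {x : Fin 7 → ℤ} (hx : bil x x = 2) :
    ¬ Killed S q p x := by
  rintro ⟨y, hy⟩
  set a3 := bil x (S.f ^ 3 *ᵥ x) with ha3
  have hn : ∀ k, bil (S.f ^ k *ᵥ x) (S.f ^ k *ᵥ x) = 2 := fun k => (S.bil_pow k x x).trans hx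
  have h12 := S.pow_twelve
  have h9 : bil x (S.f ^ 9 *ᵥ x) = a3 := by
    rw [← S.bil_pow 3, mulVec_mulVec, ← pow_add, show 3 + 9 = 12 from rfl, h12, one_mulVec, bil_comm]
  have hrel : S.f ^ 9 + S.f ^ 6 + S.f ^ 3 + 1 = 0 := by
    have h0 := aeval_self_charpoly S.f
    rw [S.chi_f, cyclotomic_twelve] at h0
    simp only [map_mul, map_add, map_sub, map_pow, aeval_X, map_one] at h0
    have e : S.f ^ 9 + S.f ^ 6 + S.f ^ 3 + 1 = (S.f ^ 2 + 1) * ((S.f ^ 4 - S.f ^ 2 + 1) * (S.f ^ 3 + 1)) := by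
      noncomm_ring
    rw [e, h0, mul_zero]
  have h6 : bil x (S.f ^ 6 *ᵥ x) = -2 - 2 * a3 := by
    have := congrArg (fun A : Matrix (Fin 7) (Fin 7) ℤ => bil x (A *ᵥ x)) hrel
    simp only [add_mulVec, one_mulVec, zero_mulVec, bil_add_right, bil_zero_right, hx, h9, ← ha3] at this
    omega
  have hb3 := bil_bound hx (hn 3)
  have hb6 := bil_bound hx (hn 6)
  rw [← ha3] at hb3
  rw [h6] at hb6
  rcases (show a3 = -2 ∨ a3 = -1 ∨ a3 = 0 by omega) with h | h | h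
  · -- the three orthogonal roots
    have h3x : S.f ^ 3 *ᵥ x = -x := eq_neg_of_bil hx (hn 3) h
    set e1 := S.M *ᵥ e7 with he1
    set e2 := S.M *ᵥ e1 with he2
    have f0 : S.f *ᵥ e7 = -e1 := S.f_e0
    have f1 : S.f *ᵥ e1 = e2 := S.f_e1
    have f2 : S.f *ᵥ e2 = e7 := S.f_e2
    have g11 : bil e1 e1 = 2 := (S.bil_M _ _).trans bil_e7
    have g22 : bil e2 e2 = 2 := (S.bil_M _ _).trans g11
    have g12 : bil e1 e2 = 0 := (S.bil_M _ _).trans S.orth1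
    have g01 : bil e7 e1 = 0 := S.orth1
    have g02 : bil e7 e2 = 0 := S.orth2
    set b0 := bil e7 x
    set b1 := bil e1 x
    set b2 := bil e2 x
    set x' := (2 : ℤ) • x - (b0 • e7 + b1 • e1 + b2 • e2) with hx'
    have o0 : bil e7 x' = 0 := by
      simp only [hx', bil_sub_right, bil_add_right, bil_smul_right, bil_e7, g01, g02]
      ring
    have o1 : bil e1 x' = 0 := by
      simp only [hx', bil_sub_right, bil_add_right, bil_smul_right, bil_comm e1 e7, g01, g11, g12]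
      ring
    have o2 : bil e2 x' = 0 := by
      simp only [hx', bil_sub_right, bil_add_right, bil_smul_right, bil_comm e2 e7, bil_comm e2 e1, g02, g12, g22]
      ring
    have hf3e : ∀ z, z = e7 ∨ z = e1 ∨ z = e2 → S.f ^ 3 *ᵥ z = -z := by
      intro z hz
      rw [show S.f ^ 3 = S.f * (S.f * S.f) by noncomm_ring, ← mulVec_mulVec, ← mulVec_mulVec]
      rcases hz with rfl | rfl | rfl <;> simp only [f0, f1, f2, mulVec_neg]
    have h3x' : S.f ^ 3 *ᵥ x' = -x' := by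
      simp only [hx', mulVec_sub, mulVec_add, mulVec_smul, h3x, hf3e e7 (Or.inl rfl),
        hf3e e1 (Or.inr (Or.inl rfl)), hf3e e2 (Or.inr (Or.inr rfl)), smul_neg]
      abel
    have hs1 : S.f *ᵥ x' = S.M *ᵥ x' := by rw [S.f_apply, o0, zero_smul, sub_zero]
    have o0' : bil e7 (S.M *ᵥ x') = 0 := by rw [← hs1, ← f2, S.bil_f]; exact o2
    have hs2 : S.f *ᵥ (S.M *ᵥ x') = S.M *ᵥ (S.M *ᵥ x') := by rw [S.f_apply, o0', zero_smul, sub_zero]
    have o0'' : bil e7 (S.M *ᵥ (S.M *ᵥ x')) = 0 := by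
      rw [← hs2, ← hs1, ← f2, S.bil_f, ← f1, S.bil_f]; exact o1
    have hs3 : S.f *ᵥ (S.M *ᵥ (S.M *ᵥ x')) = S.M *ᵥ (S.M *ᵥ (S.M *ᵥ x')) := by
      rw [S.f_apply, o0'', zero_smul, sub_zero]
    have hM3 : S.M ^ 3 *ᵥ x' = -x' := by
      rw [show S.M ^ 3 = S.M * (S.M * S.M) by noncomm_ring, ← mulVec_mulVec, ← mulVec_mulVec, ← hs3, ← hs2, ← hs1,
        mulVec_mulVec, mulVec_mulVec, show S.f * S.f * S.f = S.f ^ 3 by noncomm_ring, h3x']
    have hx0 : x' = 0 := by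
      have h0 := aeval_self_charpoly S.M
      rw [S.chi, cyclotomic_twelve] at h0
      simp only [map_mul, map_add, map_sub, map_pow, aeval_X, map_one] at h0
      have e : (S.M ^ 3 - 1) * (S.M ^ 3 * S.M ^ 3 + 1) =
          (S.M ^ 2 + 1) * ((S.M ^ 4 - S.M ^ 2 + 1) * (S.M ^ 3 - 1)) := by noncomm_ring
      rw [h0, mul_zero] at e
      have h1 := congrArg (fun A : Matrix (Fin 7) (Fin 7) ℤ => A *ᵥ x') e
      simp only [← mulVec_mulVec, sub_mulVec, add_mulVec, one_mulVec, zero_mulVec, hM3, mulVec_neg, neg_neg,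
        mulVec_add] at h1
      funext i
      have := congrFun h1 i
      simp only [Pi.add_apply, Pi.sub_apply, Pi.neg_apply, Pi.zero_apply] at this ⊢
      omega
    have h2x : (2 : ℤ) • x = b0 • e7 + b1 • e1 + b2 • e2 := sub_eq_zero.1 hx0
    have hnorm : b0 * b0 + b1 * b1 + b2 * b2 = 4 := by
      have hh := congrArg (fun z => bil x z) h2x
      simp only [bil_smul_right, bil_add_right, hx] at hh
      rw [bil_comm x e7, bil_comm x e1, bil_comm x e2] at hh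
      change (2 : ℤ) * 2 = b0 * b0 + b1 * b1 + b2 * b2 at hh
      omega
    have hb0 := bil_bound bil_e7 hx
    have hb1 := bil_bound g11 hx
    have hb2 := bil_bound g22 hx
    set Q : ℤ := (q : ℤ) with hQ
    set v := Q ^ 2 • e7 - Q • e1 - e2 with hv
    have hAv : Q • v - S.f *ᵥ v = (Q ^ 3 + 1) • e7 := by
      rw [hv]
      simp only [mulVec_sub, mulVec_smul, f0, f1, f2]
      funext i
      simp only [Pi.add_apply, Pi.sub_apply, Pi.smul_apply, Pi.neg_apply, smul_eq_mul]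
      ring
    have h1 := hy v
    rw [hAv, dotProduct_smul, smul_eq_mul] at h1
    have hval : bil x v = Q ^ 2 * b0 - Q * b1 - b2 := by
      simp only [hv, bil_sub_right, bil_smul_right, b0, b1, b2]
      rw [bil_comm x e7, bil_comm x e1, bil_comm x e2]
    rw [hval] at h1
    have hQ2 : 2 ≤ Q := by rw [hQ]; exact_mod_cast hq
    have hcq : IsCoprime (Q ^ 3 + 1) Q := ⟨1, -Q ^ 2, by ring⟩
    have hdvd : Q ^ 3 + 1 ∣ 2 * (p : ℤ) := by
      have hd : Q ^ 3 + 1 ∣ (p : ℤ) * (Q ^ 2 * b0 - Q * b1 - b2) := ⟨_, h1⟩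
      obtain ⟨l0, l1, l2, l3⟩ : -2 ≤ b1 ∧ b1 ≤ 2 ∧ -2 ≤ b2 ∧ b2 ≤ 2 := ⟨hb1.1, hb1.2, hb2.1, hb2.2⟩
      obtain ⟨l4, l5⟩ : -2 ≤ b0 ∧ b0 ≤ 2 := hb0
      have hcases : (b1 = 0 ∧ b2 = 0 ∧ (b0 = 2 ∨ b0 = -2)) ∨ (b0 = 0 ∧ b2 = 0 ∧ (b1 = 2 ∨ b1 = -2)) ∨
          (b0 = 0 ∧ b1 = 0 ∧ (b2 = 2 ∨ b2 = -2)) :=
        four_squares b0 (Finset.mem_Icc.2 ⟨l4, l5⟩) b1 (Finset.mem_Icc.2 ⟨l0, l1⟩) b2 (Finset.mem_Icc.2 ⟨l2, l3⟩) hnorm
      have hiff : ∀ m n : ℤ, m = n → Q ^ 3 + 1 ∣ n → Q ^ 3 + 1 ∣ m := fun m n e h => e ▸ h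
      rcases hcases with ⟨c1, c2, c | c⟩ | ⟨c1, c2, c | c⟩ | ⟨c1, c2, c | c⟩ <;> rw [c1, c2, c] at hd
      · exact (hcq.pow_right (n := 2)).dvd_of_dvd_mul_left (hiff _ _ (by ring) hd)
      · exact (hcq.pow_right (n := 2)).dvd_of_dvd_mul_left (hiff _ _ (by ring) (dvd_neg.2 hd))
      · exact hcq.dvd_of_dvd_mul_left (hiff _ _ (by ring) (dvd_neg.2 hd))
      · exact hcq.dvd_of_dvd_mul_left (hiff _ _ (by ring) hd)
      · exact hiff _ _ (by ring) (dvd_neg.2 hd)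
      · exact hiff _ _ (by ring) hd
    have hle := Int.le_of_dvd (by omega) hdvd
    rcases eq_or_lt_of_le hQ2 with h2 | h2
    · rw [← h2] at hdvd
      norm_num at hdvd
      exact hp9 (by omega) (by exact_mod_cast hdvd)
    · nlinarith [pow_le_pow_left₀ (show (0 : ℤ) ≤ 3 by norm_num) (show 3 ≤ Q by omega) 3]
  · -- replace x by x + f^3 x
    refine no_killed_six S hq hcop (x := x + S.f ^ 3 *ᵥ x) ?_ ?_ ⟨y + y ᵥ* S.f ^ 9, fun v => ?_⟩
    · rw [bil_add_left, bil_add_right, bil_add_right, bil_comm (S.f ^ 3 *ᵥ x) x, hx, hn 3, ← ha3, h]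
      norm_num
    · have := congrArg (fun A : Matrix (Fin 7) (Fin 7) ℤ => A *ᵥ x) hrel
      simp only [add_mulVec, one_mulVec, zero_mulVec] at this
      rw [mulVec_add, mulVec_mulVec, ← pow_add, show 6 + 3 = 9 from rfl]
      rw [eq_neg_iff_add_eq_zero, ← this]
      abel
    · have e : bil (S.f ^ 3 *ᵥ x) v = bil x (S.f ^ 9 *ᵥ v) := by
        conv_lhs => rw [← one_mulVec v, ← h12, show (12 : ℕ) = 3 + 9 from rfl, pow_add, ← mulVec_mulVec]
        rw [S.bil_pow]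
      rw [bil_add_left, e, mul_add, hy, hy, add_dotProduct, ← dotProduct_mulVec, mulVec_sub, mulVec_smul,
        mulVec_mulVec, mulVec_mulVec, ← pow_succ, ← pow_succ']
  · refine no_killed_six S hq hcop hx (eq_neg_of_bil hx (hn 6) (by omega)) ⟨y, hy⟩

end Cfsg.Agent.Small.SelfCent.E7
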