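import Cfsg.Agent.Lib.Small.SelfCent.E7.Data
import Cfsg.Agent.Lib.Small.SelfCent.Words
import Mathlib.GroupTheory.Perm.Cycle.Type

/-!
Words in the first six fundamental reflections of E7: a conjugate cycles the seventh fundamental root
through three orthogonal roots.
-/

set_option autoImplicit false
set_option linter.unusedSectionVars false

namespace Cfsg.Agent.Small.SelfCent.E7

open Cfsg.Lie Cfsg.Agent.Lie Matrix Cfsg.Agent.Small.SylowHom Polynomial

/-- The matrix of a word. -/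
def wm (ω : List (Fin 7)) : Matrix (Fin 7) (Fin 7) ℤ := wmat (D := chevE7) ω

/-- The matrix of a word, for E6. -/
def wm6 (ω : List (Fin 6)) : Matrix (Fin 6) (Fin 6) ℤ := wmat (D := chevE6) ω

/-- The element of a word. -/
noncomputable def pr7 (ω : List (Fin 7)) : factsE7.weyl := factsE7.refSys.pr ω

/-- The seventh fundamental root, as an index. -/
noncomputable def a7 : Fin chevE7.nroots := factsE7.refSys.α ⟨6, by decide⟩

theorem a7_val : a7.val = chevE7.simple 6 := rfl

/-- The action of a simple reflection. -/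
noncomputable def ws7 (i : Fin 7) : factsE7.weyl := factsE7.wS i

theorem pr7_nil : pr7 [] = 1 := RefSystem.pr_nil (R := factsE7.refSys)

theorem pr7_cons (i : Fin 7) (ω : List (Fin 7)) : pr7 (i :: ω) = ws7 i * pr7 ω :=
  RefSystem.pr_cons (R := factsE7.refSys) i ω

theorem ws7_val (i : Fin 7) (s : Fin chevE7.nroots) :
    (ws7 i • s : Fin chevE7.nroots).val = chevE7.reflectRoot i.val s.val := factsE7.wS_smul i s

theorem ws7_sq (i : Fin 7) : ws7 i * ws7 i = 1 := factsE7.wS_sq i

theorem refl_seven (x : Fin 7 → ℤ) : sm7 6 *ᵥ x = x - bil e7 x • e7 := by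
  funext j
  fin_cases j <;> simp [sm7, bil, e7, cE7, Matrix.mulVec, dotProduct, Fin.sum_univ_seven,
    show cartanSys chevE7 (6 : Fin 7) (0 : Fin 7) = 0 from (by decide +kernel : cartanSys chevE7 ⟨6, by decide⟩ ⟨0, by decide⟩ = 0),
    show cartanSys chevE7 (6 : Fin 7) (1 : Fin 7) = 0 from (by decide +kernel : cartanSys chevE7 ⟨6, by decide⟩ ⟨1, by decide⟩ = 0),
    show cartanSys chevE7 (6 : Fin 7) (2 : Fin 7) = 0 from (by decide +kernel : cartanSys chevE7 ⟨6, by decide⟩ ⟨2, by decide⟩ = 0),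
    show cartanSys chevE7 (6 : Fin 7) (3 : Fin 7) = 0 from (by decide +kernel : cartanSys chevE7 ⟨6, by decide⟩ ⟨3, by decide⟩ = 0),
    show cartanSys chevE7 (6 : Fin 7) (4 : Fin 7) = 0 from (by decide +kernel : cartanSys chevE7 ⟨6, by decide⟩ ⟨4, by decide⟩ = 0),
    show cartanSys chevE7 (6 : Fin 7) (5 : Fin 7) = -1 from (by decide +kernel : cartanSys chevE7 ⟨6, by decide⟩ ⟨5, by decide⟩ = -1),
    show cartanSys chevE7 (6 : Fin 7) (6 : Fin 7) = 2 from (by decide +kernel : cartanSys chevE7 ⟨6, by decide⟩ ⟨6, by decide⟩ = 2)] <;> ring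

theorem wm_nil : wm [] = 1 := rfl

theorem wm_cons (i : Fin 7) (ω : List (Fin 7)) : wm (i :: ω) = sm7 i * wm ω := by
  rw [← smat_seven]
  exact wmat_cons (D := chevE7) i ω

theorem wm_append (a b : List (Fin 7)) : wm (a ++ b) = wm a * wm b := wmat_append (D := chevE7) a b

theorem wm_form (ω : List (Fin 7)) : (wm ω)ᵀ * cE7 * wm ω = cE7 := by
  have h := wmat_form (D := chevE7) (by rw [cmat_eq]; exact adj_seven.2.2.1)
    (fun i => by rw [cmat_eq]; exact (by decide : ∀ i : Fin 7, cE7 i i = 2) i) ω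
  rw [cmat_eq] at h
  exact h

theorem cor_pr (ω : List (Fin 7)) (s : Fin chevE7.nroots) :
    cor (pr7 ω • s : Fin chevE7.nroots).val = wm ω *ᵥ cor s.val := by
  induction ω with
  | nil => rw [wm_nil, pr7_nil, one_smul, one_mulVec]
  | cons i ω ih =>
    rw [pr7_cons, mul_smul, ws7_val, wm_cons, ← mulVec_mulVec, ← ih]
    funext j
    exact cor_refl i _ (Fin.isLt _) j

theorem low_row (ω : List (Fin 6)) (t : Fin 7) :
    wm (ω.map Fin.castSucc) 6 t = if t = 6 then 1 else 0 := by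
  induction ω generalizing t with
  | nil =>
    rw [List.map_nil, wm_nil, Matrix.one_apply]
    exact if_congr eq_comm rfl rfl
  | cons i ω ih =>
    rw [List.map_cons, wm_cons, Matrix.mul_apply, Finset.sum_eq_single (6 : Fin 7)]
    · rw [show sm7 i.castSucc 6 6 = 1 from (smat_row i 6).trans (if_pos rfl), one_mul, ih]
    · intro k _ hk
      rw [show sm7 i.castSucc 6 k = 0 from (smat_row i k).trans (if_neg hk), zero_mul]
    · simp

theorem level_mulVec (ω : List (Fin 6)) (x : Fin 7 → ℤ) : (wm (ω.map Fin.castSucc) *ᵥ x) 6 = x 6 := by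
  simp [mulVec, dotProduct, low_row]

theorem low_block (ω : List (Fin 6)) (m t : Fin 6) :
    wm (ω.map Fin.castSucc) m.castSucc t.castSucc = wm6 ω m t := by
  induction ω generalizing m t with
  | nil =>
    rw [List.map_nil, wm_nil]
    show (1 : Matrix (Fin 7) (Fin 7) ℤ) m.castSucc t.castSucc = (1 : Matrix (Fin 6) (Fin 6) ℤ) m t
    simp [Matrix.one_apply, Fin.castSucc_inj]
  | cons i ω ih =>
    rw [List.map_cons, wm_cons, Matrix.mul_apply, Fin.sum_univ_castSucc,
      show (Fin.last 6) = (6 : Fin 7) from rfl, low_row, if_neg (show t.castSucc ≠ (6 : Fin 7) from (Fin.castSucc_lt_last t).ne), mul_zero, add_zero]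
    have e : wm6 (i :: ω) = sm6 i * wm6 ω := by
      rw [← smat_six]; exact wmat_cons (D := chevE6) i ω
    rw [e, Matrix.mul_apply]
    refine Finset.sum_congr rfl fun k _ => ?_
    rw [ih, ← smat_block i m k]

theorem eLev_wm (ω : List (Fin 6)) : wm (ω.map Fin.castSucc) *ᵥ eLev = eLev := by
  induction ω with
  | nil => rw [List.map_nil, wm_nil, one_mulVec]
  | cons i ω ih =>
    rw [List.map_cons, wm_cons, ← mulVec_mulVec, ih]
    exact eLev_fix i

theorem low_charpoly (ω : List (Fin 6)) :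
    (wm (ω.map Fin.castSucc)).charpoly = (wm6 ω).charpoly * (X - 1) := by
  let e : Fin 6 ⊕ Fin 1 ≃ Fin 7 := finSumFinEquiv
  rw [← Matrix.charpoly_reindex e.symm, ← Matrix.fromBlocks_toBlocks (Matrix.reindex e.symm e.symm (wm (ω.map Fin.castSucc)))]
  have h11 : (Matrix.reindex e.symm e.symm (wm (ω.map Fin.castSucc))).toBlocks₁₁ = wm6 ω := by
    ext m t
    exact low_block ω m t
  have h21 : (Matrix.reindex e.symm e.symm (wm (ω.map Fin.castSucc))).toBlocks₂₁ = 0 := by
    ext m t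
    have hm : e (Sum.inr m) = 6 := by rw [Subsingleton.elim m 0]; rfl
    show wm (ω.map Fin.castSucc) (e (Sum.inr m)) (e (Sum.inl t)) = 0
    rw [hm, low_row, if_neg]
    intro h
    have := congrArg Fin.val h
    rw [show e (Sum.inl t) = Fin.castAdd 1 t from rfl] at this
    exact absurd this (Nat.ne_of_lt t.isLt)
  have h22 : (Matrix.reindex e.symm e.symm (wm (ω.map Fin.castSucc))).toBlocks₂₂ = 1 := by
    ext m t
    have hm : ∀ m : Fin 1, e (Sum.inr m) = 6 := fun m => by rw [Subsingleton.elim m 0]; rfl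
    show wm (ω.map Fin.castSucc) (e (Sum.inr m)) (e (Sum.inr t)) = _
    rw [hm, hm, low_row, Subsingleton.elim m t]
    simp
  rw [h21, Matrix.charpoly_fromBlocks_zero₂₁, h11, h22, Matrix.charpoly_one]
  simp

theorem fixed_level_zero {ω : List (Fin 6)}
    (hχ : (wm6 ω).charpoly.eval 1 ≠ 0) {u : Fin 7 → ℤ}
    (hu : wm (ω.map Fin.castSucc) *ᵥ u = u) (h6 : u 6 = 0) : u = 0 := by
  have hv : ((scalar (Fin 6) (1 : ℤ)) - wm6 ω) *ᵥ (fun k => u k.castSucc) = 0 := by
    rw [map_one, sub_mulVec, one_mulVec, sub_eq_zero]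
    funext m
    have h1 := congrFun hu m.castSucc
    simp only [mulVec, dotProduct] at h1 ⊢
    rw [Fin.sum_univ_castSucc, show u (Fin.last 6) = 0 from h6, mul_zero, add_zero] at h1
    rw [← h1]
    exact Finset.sum_congr rfl fun k _ => by rw [low_block]
  have h0 : (fun k : Fin 6 => u k.castSucc) = 0 := by
    by_contra h
    refine hχ ?_
    rw [Matrix.eval_charpoly]
    exact Matrix.exists_mulVec_eq_zero_iff.1 ⟨_, h, hv⟩
  funext k
  refine Fin.lastCases ?_ (fun j => ?_) k
  · exact h6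
  · exact congrFun h0 j

theorem exists_descent (s : Fin chevE7.nroots) (hs : cor s.val 6 = 1) :
    ∃ η : List (Fin 6), pr7 (η.map Fin.castSucc) • a7 = s := by
  suffices H : ∀ n, ∀ s : Fin chevE7.nroots, s.val = n → cor s.val 6 = 1 →
      ∃ η : List (Fin 6), pr7 (η.map Fin.castSucc) • a7 = s from
    H _ s rfl hs
  intro n
  induction n using Nat.strong_induction_on with
  | _ n ih =>
    intro s hn hs
    by_cases h : s.val = chevE7.simple 6
    · exact ⟨[], by rw [List.map_nil, pr7_nil, one_smul]; exact Fin.ext h.symm⟩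
    · obtain ⟨i, hi⟩ := descent s.val s.isLt hs h
      have hlev : cor (ws7 i.castSucc • s : Fin chevE7.nroots).val 6 = 1 := by
        have h1 := cor_pr ([i].map Fin.castSucc) s
        rw [List.map_singleton, pr7_cons, pr7_nil, mul_one] at h1
        rw [h1, show [i.castSucc] = [i].map Fin.castSucc from rfl, level_mulVec, hs]
      obtain ⟨η, hη⟩ := ih _ (by rw [← hn, ws7_val]; exact hi) (ws7 i.castSucc • s) rfl hlev
      refine ⟨i :: η, ?_⟩
      rw [List.map_cons, pr7_cons, mul_smul, hη, ← mul_smul, ws7_sq, one_smul]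

set_option maxHeartbeats 800000 in
/-- The word and the cycle. -/
theorem exists_sys (ω : List (Fin 6))
    (hχ : (wm6 ω).charpoly = cyclotomic 12 ℤ * cyclotomic 3 ℤ) :
    ∃ (η : List (Fin 6)) (S : Sys),
      S.M = wm ((η.map Fin.castSucc).reverse ++ ω.map Fin.castSucc ++ η.map Fin.castSucc) ∧ S.R = sm7 6 := by
  classical
  set M := wm (ω.map Fin.castSucc) with hM
  have hMc : M.charpoly = cyclotomic 12 ℤ * (X ^ 3 - 1) := by
    rw [hM, low_charpoly, hχ, cyclotomic_three]; ring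
  have hM12 : M ^ 12 = 1 := by
    have hd : M.charpoly ∣ (X : ℤ[X]) ^ 12 - 1 := ⟨(X ^ 2 + 1) * (X ^ 3 + 1), by rw [hMc, cyclotomic_twelve]; ring⟩
    obtain ⟨g, hg⟩ := hd
    have h := congrArg (aeval M) hg
    rw [map_mul, aeval_self_charpoly, zero_mul, map_sub, map_pow, aeval_X, map_one, sub_eq_zero] at h
    exact h
  -- the permutation of the roots of level one
  let w := pr7 (ω.map Fin.castSucc)
  let T := {s : Fin chevE7.nroots // cor s.val 6 = 1}
  have hcard : Fintype.card T = 27 := by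
    rw [Fintype.card_subtype]
    exact (by decide +kernel : ((Finset.univ : Finset (Fin 126)).filter fun s => cor s.val 6 = 1).card = 27)
  have hw : ∀ s : Fin chevE7.nroots, cor (w • s).val = M *ᵥ cor s.val := cor_pr _
  let π : T → T := fun s => ⟨w • s.1, by rw [hw, hM, level_mulVec]; exact s.2⟩
  have hπ : Function.Bijective π := by
    refine Finite.injective_iff_bijective.1 fun a b h => Subtype.ext ?_
    exact MulAction.injective w (congrArg Subtype.val h)
  let e : Equiv.Perm T := Equiv.ofBijective π hπ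
  have hek : ∀ (k : ℕ) (s : T), cor ((e ^ k) s).1.val = M ^ k *ᵥ cor s.1.val := by
    intro k s
    induction k with
    | zero => simp
    | succ k ih =>
      rw [pow_succ', Equiv.Perm.mul_apply, pow_succ', ← mulVec_mulVec, ← ih]
      exact hw _
  have he4 : (e ^ 3) ^ 2 ^ 2 = 1 := by
    refine Equiv.ext fun s => Subtype.ext (Fin.ext (cor_inj _ (Fin.isLt _) _ (Fin.isLt _) ?_))
    rw [← pow_mul, hek, show 3 * 2 ^ 2 = 12 from rfl, hM12, one_mulVec]
    rfl
  haveI : Fact (Nat.Prime 2) := ⟨Nat.prime_two⟩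
  obtain ⟨s, hs⟩ := Equiv.Perm.exists_fixed_point_of_prime (p := 2) (n := 2) (by rw [hcard]; decide) he4
  set v := cor s.1.val with hv
  have hv3 : M *ᵥ (M *ᵥ (M *ᵥ v)) = v := by
    have h := hek 3 s
    rw [hs, show M ^ 3 = M * (M * M) by noncomm_ring, ← mulVec_mulVec, ← mulVec_mulVec] at h
    exact h.symm
  have hnorm : bil v v = 2 := cor_norm _ (Fin.isLt _)
  have hbil : ∀ x y, bil (M *ᵥ x) (M *ᵥ y) = bil x y := fun x y => by
    have e : (M *ᵥ x) ⬝ᵥ (cE7 *ᵥ (M *ᵥ y)) = x ⬝ᵥ ((Mᵀ * cE7 * M) *ᵥ y) := by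
      rw [← mulVec_mulVec, ← mulVec_mulVec, dotProduct_mulVec x, vecMul_transpose]
    rw [bil, e, hM, wm_form]
    rfl
  set a := bil v (M *ᵥ v) with ha
  have h2 : bil v (M *ᵥ (M *ᵥ v)) = a := by
    rw [ha, ← hbil v (M *ᵥ (M *ᵥ v)), hv3, bil_comm]
  have hsum : v + M *ᵥ v + M *ᵥ (M *ᵥ v) = eLev := by
    refine sub_eq_zero.1 (fixed_level_zero (ω := ω) ?_ ?_ ?_)
    · rw [hχ, cyclotomic_twelve, cyclotomic_three]; simp
    · rw [mulVec_sub, mulVec_add, mulVec_add, eLev_wm, ← hM, hv3]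
      abel
    · simp only [Pi.sub_apply, Pi.add_apply, hM, level_mulVec]
      rw [hv, s.2]
      rfl
  have ha0 : a = 0 := by
    have h := eLev_norm
    rw [← hsum] at h
    simp only [bil_add_left, bil_add_right, hbil, hnorm, bil_comm (M *ᵥ v) v, bil_comm (M *ᵥ (M *ᵥ v)) v, h2,
      bil_comm (M *ᵥ (M *ᵥ v)) (M *ᵥ v), ← ha] at h
    omega
  -- transport to the seventh root
  obtain ⟨η, hη⟩ := exists_descent s.1 s.2
  set P := wm (η.map Fin.castSucc) with hP
  set P' := wm ((η.map Fin.castSucc).reverse) with hP'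
  have hPP : P * P' = 1 := wmat_mul_reverse factsE7 (η.map Fin.castSucc)
  have hPP' : P' * P = 1 := mul_eq_one_comm.1 hPP
  have hPe : P *ᵥ e7 = v := by
    rw [hP, ← cor_seven, hv, ← hη, cor_pr, a7_val]
  have hM' : wm ((η.map Fin.castSucc).reverse ++ ω.map Fin.castSucc ++ η.map Fin.castSucc) = P' * M * P := by rw [wm_append, wm_append]
  have hconj : ∀ x, (P' * M * P) *ᵥ (P' *ᵥ x) = P' *ᵥ (M *ᵥ x) := fun x => by
    rw [mulVec_mulVec, mul_assoc _ P P', hPP, mul_one, ← mulVec_mulVec]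
  have he7 : P' *ᵥ v = e7 := by rw [← hPe, mulVec_mulVec, hPP', one_mulVec]
  have hbP : ∀ x y, bil (P' *ᵥ x) (P' *ᵥ y) = bil x y := fun x y => by
    have e : (P' *ᵥ x) ⬝ᵥ (cE7 *ᵥ (P' *ᵥ y)) = x ⬝ᵥ ((P'ᵀ * cE7 * P') *ᵥ y) := by
      rw [← mulVec_mulVec, ← mulVec_mulVec, dotProduct_mulVec x, vecMul_transpose]
    rw [bil, e, hP', wm_form]
    rfl
  refine ⟨η, ⟨P' * M * P, sm7 6, ?_, ?_, ?_, ?_, ?_, ?_⟩, hM'.symm, rfl⟩
  · rw [← hM']; exact wm_form _
  · rw [← he7, hconj, hconj, hconj, hv3]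
  · rw [← he7, hconj, hbP]; exact ha0
  · rw [← he7, hconj, hconj, hbP, h2, ha0]
  · rw [← hMc]
    rw [mul_assoc P' M P, Matrix.charpoly_mul_comm, mul_assoc M P P', hPP, mul_one]
  · exact refl_seven

end Cfsg.Agent.Small.SelfCent.E7
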