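import Cfsg.Agent.Lib.Small.SelfCent.E7.Embed
import Cfsg.Agent.Lib.Small.SelfCent.E7.Cent
import Cfsg.Agent.Lib.Small.SelfCent.E7.Twist
import Cfsg.Agent.Lib.Small.SelfCent.E7.Fixed

/-!
The torus of order Φ12(q) (q^3 + 1) / gcd(2, q - 1) in E7(q): the twisted torus of E6 inside E7, twisted
once more by the reflection in a root which it cycles through three orthogonal roots.
-/

set_option autoImplicit false
set_option linter.unusedSectionVars false

namespace Cfsg.Agent.Small.SelfCent.E7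

open Cfsg.Lie Cfsg.Agent.Lie Cfsg.Agent.Small.ChevInvol Cfsg.Agent.Small.SylowHom Matrix Polynomial
open scoped MatrixGroups

theorem fixed_field {K F : Type*} [Field K] [Field F] [Fintype F] {q : ℕ} (hq : Fintype.card F = q)
    (hq2 : 2 ≤ q) (j : F →+* K) {t : K} (ht : t ^ q = t) : ∃ t₀, j t₀ = t := by
  classical
  by_contra hno
  have hne : (X ^ q - X : K[X]) ≠ 0 := FiniteField.X_pow_card_sub_X_ne_zero K hq2
  have hdeg : (X ^ q - X : K[X]).natDegree = q := FiniteField.X_pow_card_sub_X_natDegree_eq K hq2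
  let A := insert t (Finset.univ.image j)
  have h1 : A.card = q + 1 := by
    rw [Finset.card_insert_of_notMem (fun h => hno (by simpa using h)), Finset.card_image_of_injective _ j.injective,
      Finset.card_univ, hq]
  have h2 : A ⊆ (X ^ q - X : K[X]).roots.toFinset := fun s hs => by
    rw [Multiset.mem_toFinset, mem_roots hne, IsRoot.def, eval_sub, eval_pow, eval_X, sub_eq_zero]
    rcases Finset.mem_insert.1 hs with rfl | hs
    · exact ht
    · obtain ⟨a, -, rfl⟩ := Finset.mem_image.1 hs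
      rw [← map_pow, ← hq, FiniteField.pow_card]
  have h3 := (Finset.card_le_card h2).trans ((Multiset.toFinset_card_le _).trans (card_roots' _))
  omega

theorem smat7_eq : (smat (D := chevE7) ⟨6, by decide⟩ : Matrix (Fin 7) (Fin 7) ℤ) = sm7 6 :=
  (smat_seven ⟨6, by decide⟩).trans rfl

set_option maxRecDepth 10000 in
theorem orth_of_bil {r s : Fin chevE7.nroots} (h : bil (cor r.val) (cor s.val) = 0) :
    Orth chevE7 r.val s.val := by
  have hn : ∀ t : Fin chevE7.nroots, cor (chevE7.neg t.val) = -cor t.val := fun t => by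
    funext i
    rw [Pi.neg_apply]
    exact cor_neg t.val t.isLt i
  intro a b ha hb
  rcases ha with rfl | rfl <;> rcases hb with rfl | rfl
  · exact orth_comm _ r.isLt _ s.isLt h
  · exact orth_comm _ r.isLt _ (factsE7.neg_lt s.isLt) (by rw [hn, bil_neg_right, h, neg_zero])
  · exact orth_comm _ (factsE7.neg_lt r.isLt) _ s.isLt (by rw [hn, bil_comm, bil_neg_right, bil_comm, h, neg_zero])
  · exact orth_comm _ (factsE7.neg_lt r.isLt) _ (factsE7.neg_lt s.isLt) (by
      rw [hn, hn, bil_neg_right, bil_comm, bil_neg_right, bil_comm, h, neg_zero, neg_zero])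

theorem coprime_phi {q p : ℕ} (hp : p = 2 ∨ p = 3 ∨ p = 5 ∨ p = 7) :
    IsCoprime ((q : ℤ) ^ 4 - (q : ℤ) ^ 2 + 1) (p : ℤ) := by
  have key : ∀ r : ℕ, r.Prime → (∀ t : ZMod r, t ^ 4 - t ^ 2 + 1 ≠ 0) →
      IsCoprime ((q : ℤ) ^ 4 - (q : ℤ) ^ 2 + 1) (r : ℤ) := by
    intro r hr h
    refine ((Prime.coprime_iff_not_dvd (Nat.prime_iff_prime_int.1 hr)).2 fun hd => h (q : ZMod r) ?_).symm
    have h1 := (ZMod.intCast_zmod_eq_zero_iff_dvd _ r).2 hd
    push_cast at h1
    exact h1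
  rcases hp with rfl | rfl | rfl | rfl
  · exact key 2 Nat.prime_two (by decide)
  · exact key 3 Nat.prime_three (by decide)
  · exact key 5 Nat.prime_five (by decide)
  · exact key 7 (by norm_num) (by decide)

set_option maxHeartbeats 2000000 in
theorem torus_E7 {F : Type*} [Field F] [Fintype F] {q : ℕ} (hq : Fintype.card F = q) :
    ∃ H : Subgroup ↥(chevE7.group F), IsCyclic ↥H ∧
      Nat.card ↥H = (q ^ 4 - q ^ 2 + 1) * (q ^ 3 + 1) / Nat.gcd 2 (q - 1) ∧
      Subgroup.centralizer (H : Set ↥(chevE7.group F)) = H := by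
  classical
  have hq2 : 2 ≤ q := hq ▸ Fintype.one_lt_card
  have hle : q ^ 2 ≤ q ^ 4 := Nat.pow_le_pow_right (by omega) (by norm_num)
  have hev12 : ((cyclotomic 12 ℤ).eval (q : ℤ)).natAbs = q ^ 4 - q ^ 2 + 1 := by
    rw [cyclotomic_twelve]
    simp only [eval_add, eval_sub, eval_pow, eval_X, eval_one]
    rw [show (q : ℤ) ^ 4 - (q : ℤ) ^ 2 + 1 = ((q ^ 4 - q ^ 2 + 1 : ℕ) : ℤ) by push_cast [hle]; ring,
      Int.natAbs_natCast]
  -- the prime and the frame in E6
  have hbig : 12 < ((cyclotomic 12 ℤ).eval (q : ℤ)).natAbs := by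
    rw [hev12]
    have h24 : 4 * q ^ 2 ≤ q ^ 4 := by
      rw [show q ^ 4 = q ^ 2 * q ^ 2 by ring]
      exact Nat.mul_le_mul_right _ (Nat.pow_le_pow_left hq2 2)
    have hq4 : 4 ≤ q ^ 2 := Nat.pow_le_pow_left hq2 2
    omega
  have hprimes : ∀ p : ℕ, p.Prime → p ∣ 12 → p = 2 ∨ p = 3 := fun p hp h => by
    rcases hp.dvd_mul.1 (show p ∣ 4 * 3 from h) with h | h
    · exact Or.inl ((Nat.prime_dvd_prime_iff_eq hp Nat.prime_two).1 (hp.dvd_of_dvd_pow (show p ∣ 2 ^ 2 from h)))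
    · exact Or.inr ((Nat.prime_dvd_prime_iff_eq hp Nat.prime_three).1 h)
  obtain ⟨r, hr, hord, hd⟩ := exists_ord (q := q) (d := 12) (by norm_num) hbig (fun p hp h12 h => by
    have hc := coprime_phi (q := q) (p := p) (by rcases hprimes p hp h12 with h | h <;> simp [h])
    have h1 : (p : ℤ) ∣ (q : ℤ) ^ 4 - (q : ℤ) ^ 2 + 1 := by
      have h2 : p ∣ ((cyclotomic 12 ℤ).eval (q : ℤ)).natAbs := (dvd_pow_self p two_ne_zero).trans h
      rw [← Int.natCast_dvd, cyclotomic_twelve] at h2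
      simpa using h2
    exact hp.one_lt.ne' (Int.natAbs_natCast p ▸ Int.isUnit_iff_natAbs_eq.1 (hc.isUnit_of_dvd' h1 dvd_rfl)))
  have hrp := hr.out
  have hrW : ¬ r ∣ [2, 5, 6, 8, 9, 12].prod := by
    intro h
    obtain ⟨m, hm⟩ := hd
    have := hrp.two_le
    obtain ⟨e, he, hre⟩ := hrp.prime.dvd_prod_iff.1 h
    have h1 := Nat.le_of_dvd (by fin_cases he <;> norm_num) hre
    have h2 : e ≤ 12 := by fin_cases he <;> norm_num
    omega
  have hdd6 : ∀ a : Fin 1, (![3] : Fin 1 → ℕ) a ∣ [2, 5, 6, 8, 9, 12].prod := fun a => by fin_cases a; norm_num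
  have hrG : r ∣ Nat.card ↥(chevE6.group F) := by
    have hg := factsE6.card_group (F := F) hq kerCertE6 [2, 5, 6, 8, 9, 12] rfl lenSumE6
    have h1 : r ∣ q ^ (chevE6.nroots / 2) * ([2, 5, 6, 8, 9, 12].map fun e => q ^ e - 1).prod :=
      ((SylowHom.dvd_pred_pow (r := r) (q := q) (by omega) 12).2 (by rw [hord])).trans
        ((List.dvd_prod (List.mem_map.2 ⟨12, by decide, rfl⟩)).mul_left _)
    rw [← hg] at h1
    exact (hrp.dvd_mul.1 h1).resolve_left (gcd_prime kerCertE6 hdd6 hrW q)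
  -- the field of q^12 elements
  obtain ⟨p, hp⟩ := CharP.exists F
  have := hp
  have : Fact p.Prime := ⟨(CharP.char_is_prime_or_zero F p).resolve_right (CharP.char_ne_zero_of_finite F p)⟩
  let K := FiniteField.Extension F p 12
  let _ := Fintype.ofFinite K
  have hL : Fintype.card K = q ^ 12 := by
    rw [← Nat.card_eq_fintype_card, FiniteField.natCard_extension, Nat.card_eq_fintype_card, hq]
  obtain ⟨n, -, hn⟩ := FiniteField.card F p
  have : CharP K p := charP_of_injective_ringHom (algebraMap F K).injective p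
  let σ : K ≃+* K := iterateFrobeniusEquiv K p n
  have hσ : ∀ t : K, σ t = t ^ q := fun t => by rw [show σ t = t ^ p ^ (n : ℕ) from rfl, ← hn, hq]
  set j := algebraMap F K
  have hfix : ∀ t, σ t = t → ∃ t₀, j t₀ = t := fun t ht => fixed_field hq hq2 j (hσ t ▸ ht)
  have hσj : ∀ a, σ (j a) = j a := fun a => by rw [hσ, ← map_pow, ← hq, FiniteField.pow_card]
  obtain ⟨x, ω, c, -, hc, hχM, -, hcentT, hg⟩ :=
    frame factsE6 kerCertE6 hdd6 lenSumE6 hrW hq rfl only_E6 hord hrG hL σ hσ j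
  -- in the presented groups
  set hF := factsE7
  have hH6 := minRepE6.full.cert.hyp.1
  have hH := minRepE7.full.cert.hyp.1
  obtain ⟨ψ6, hψ6, hψp6, hψr6⟩ := factsE6.exists_st_torus hH6 (F := K)
  obtain ⟨ψ, hψ, hψp, hψr⟩ := hF.exists_st_torus hH (F := K)
  have hψi := psi_injective hF minRepE7 hH hψ
  obtain ⟨cs6, hcs6⟩ := exists_preimage factsE6 hc
  set gs6 := stMap factsE6 σ.toRingHom cs6 * cs6⁻¹ with hgs6
  obtain ⟨t', ht'⟩ : ∃ t', gs6 = (factsE6.stT hH6 K).nw ω * ψ6 t' := by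
    have hgsp : factsE6.proj K gs6 = gmap σ.toRingHom c * c⁻¹ := by rw [map_mul, map_inv, proj_stMap, hcs6]
    set ns := (factsE6.stT hH6 K).nw ω with hns
    have hz : factsE6.proj K (ns⁻¹ * gs6) ∈ (factsE6.tsys K).H :=
      hcentT _ (proj_mem factsE6 hH6 _) fun e => by
        rw [map_mul, map_inv, hns, factsE6.proj_nw hH6, hgsp]
        have h1 := hg e
        rw [← nw_conj factsE6] at h1
        calc ((factsE6.tsys K).nw ω)⁻¹ * (gmap σ.toRingHom c * c⁻¹) * torus chevE6 K e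
            = ((factsE6.tsys K).nw ω)⁻¹ * (gmap σ.toRingHom c * c⁻¹ * torus chevE6 K e *
                (gmap σ.toRingHom c * c⁻¹)⁻¹) * (gmap σ.toRingHom c * c⁻¹) := by group
          _ = _ := by rw [h1]; group
    obtain ⟨t, ht⟩ := exists_torus factsE6 hz
    have h1 : ns⁻¹ * gs6 * (ψ6 t)⁻¹ ∈ ψ6.range := hψr6 (factsE6.H_le_H0 hH6 (factsE6.ker_le_H hH6 (by
      rw [MonoidHom.mem_ker, map_mul, map_inv, hψp6, ht, mul_inv_cancel])))
    obtain ⟨k, hk⟩ := h1
    exact ⟨k * t, by rw [map_mul, hk, inv_mul_cancel_right, mul_inv_cancel_left]⟩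
  obtain ⟨η, S, hSM, hSR⟩ := exists_sys ω hχM
  set S7 := hF.stT hH K with hS7
  let ηu : List (Fin chevE7.rank) := η.map up
  let ωu : List (Fin chevE7.rank) := ω.map up
  let ωT : List (Fin chevE7.rank) := ηu.reverse ++ ωu ++ ηu
  have hωT : (wmat ωT : Matrix (Fin 7) (Fin 7) ℤ) = S.M := hSM.symm
  -- conjugation by monomial elements
  have hswap : ∀ (l : List (Fin chevE7.rank)) (a : Fin chevE7.rank → Kˣ),
      ψ a * S7.nw l = S7.nw l * ψ (act (wmat l.reverse) a) := fun l a => by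
    have h1 := nw_psi hF hH hψ l (act (wmat l.reverse) a)
    rw [← act_mul, wmat_mul_reverse hF, act_one] at h1
    rw [← h1, hS7]
    group
  have hσnw : ∀ l : List (Fin chevE7.rank), stMap hF σ.toRingHom (S7.nw l) = S7.nw l := fun l => by
    induction l with
    | nil => simp [TorusSys.nw]
    | cons i l ih =>
      rw [TorusSys.nw_cons, map_mul, ih]
      congr 1
      simp [hS7, TorusSys.nS, TorusSys.n, nElt, Facts.stT_x, stMap_x]
  set cs7 := emb K cs6 with hcs7
  have hgs7 : stMap hF σ.toRingHom cs7 * cs7⁻¹ = S7.nw ωu * ψ (ext t') := by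
    rw [hcs7, ← emb_stMap, ← map_inv, ← map_mul, ← hgs6, ht', map_mul, emb_nw, emb_psi hψ6 hψ]
  set cs1 := (S7.nw ηu)⁻¹ * cs7 with hcs1
  obtain ⟨t0, ht0⟩ : ∃ t0, stMap hF σ.toRingHom cs1 * cs1⁻¹ = S7.nw ωT * ψ t0 := by
    obtain ⟨g, hg, hge⟩ := S7.nw_inv ηu
    obtain ⟨a, rfl⟩ := hψr (hF.H_le_H0 hH hg)
    refine ⟨act (wmat ωT.reverse) a * act (wmat ηu.reverse) (ext t'), ?_⟩
    rw [hcs1, map_mul, map_inv, hσnw, _root_.mul_inv_rev, inv_inv,
      show (S7.nw ηu)⁻¹ * stMap hF σ.toRingHom cs7 * (cs7⁻¹ * S7.nw ηu) =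
        (S7.nw ηu)⁻¹ * (stMap hF σ.toRingHom cs7 * cs7⁻¹) * S7.nw ηu by group, hgs7]
    calc (S7.nw ηu)⁻¹ * (S7.nw ωu * ψ (ext t')) * S7.nw ηu
        = ψ a * S7.nw ηu.reverse * S7.nw ωu * (ψ (ext t') * S7.nw ηu) := by rw [hge]; group
      _ = ψ a * S7.nw ωT * ψ (act (wmat ηu.reverse) (ext t')) := by
        rw [hswap ηu (ext t'), show S7.nw ωT = S7.nw ηu.reverse * S7.nw ωu * S7.nw ηu by
          rw [TorusSys.nw_append, TorusSys.nw_append]]
        group
      _ = _ := by rw [hswap ωT a, map_mul, mul_assoc]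
  set c1 := hF.proj K cs1 with hc1
  set g1 := (hF.tsys K).nw ωT * torus chevE7 K t0 with hg1def
  have hg1 : gmap σ.toRingHom c1 * c1⁻¹ = g1 := by
    rw [hc1, ← proj_stMap, ← map_inv, ← map_mul, ht0, map_mul, hF.proj_nw hH, hψp]
  have hτ : ∀ k y, (tau σ g1)^[k] y = c1 * (gmap σ.toRingHom)^[k] (c1⁻¹ * y * c1) * c1⁻¹ := by
    intro k y
    induction k with
    | zero => simp; group
    | succ k ih =>
      rw [Function.iterate_succ_apply', Function.iterate_succ_apply', ih, tau_apply, ← hg1, map_mul, map_mul, map_inv]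
      group
  have h12 : ∀ y, (tau σ g1)^[12] y = y := fun y => by
    have hg12 : ∀ z : GL chevE7.Idx K, (gmap σ.toRingHom)^[12] z = z := by
      intro z
      refine Units.ext (Matrix.ext fun a b => ?_)
      have hit : ∀ (k : ℕ) (z : GL chevE7.Idx K), (((gmap σ.toRingHom)^[k] z : GL chevE7.Idx K) :
          Matrix chevE7.Idx chevE7.Idx K) a b = (z : Matrix chevE7.Idx chevE7.Idx K) a b ^ q ^ k := by
        intro k
        induction k with
        | zero => simp
        | succ k ih =>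
          intro z
          rw [Function.iterate_succ_apply, ih]
          show σ ((z : Matrix chevE7.Idx chevE7.Idx K) a b) ^ q ^ k = _
          rw [hσ, ← pow_mul, ← pow_succ']
      rw [hit, ← hL, FiniteField.pow_card]
    rw [hτ, hg12]
    group
  -- the three roots
  let i6 : Fin chevE7.rank := ⟨6, by decide⟩
  set α := hF.refSys.α i6 with hα
  set w := hF.refSys.pr ωT with hw
  have hcor : ∀ s : Fin chevE7.nroots, cor (w • s : Fin chevE7.nroots).val = S.M *ᵥ cor s.val := fun s => by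
    rw [hSM]; exact cor_pr _ s
  have hcα : cor α.val = e7 := cor_seven
  have hw3 : w • w • w • α = α := by
    refine Fin.ext (cor_inj _ (Fin.isLt _) _ (Fin.isLt _) ?_)
    rw [hcor, hcor, hcor, hcα, S.cube]
  have e1 : w⁻¹ • α = w • w • α := by rw [inv_smul_eq_iff, hw3]
  have e2 : w⁻¹ • w⁻¹ • α = w • α := by rw [e1, inv_smul_smul]
  have hcyc : w⁻¹ • w⁻¹ • w⁻¹ • α = α := by rw [e2, inv_smul_smul]
  have ho1 : Orth chevE7 α.val (w⁻¹ • α : Fin chevE7.nroots).val := orth_of_bil (by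
    rw [e1, hcor, hcor, hcα]; exact S.orth2)
  have ho2 : Orth chevE7 α.val (w⁻¹ • w⁻¹ • α : Fin chevE7.nroots).val := orth_of_bil (by
    rw [e2, hcor, hcα]; exact S.orth1)
  have ho3 : Orth chevE7 (w⁻¹ • α : Fin chevE7.nroots).val (w⁻¹ • w⁻¹ • α : Fin chevE7.nroots).val := orth_of_bil (by
    rw [e2, e1, hcor, hcor, hcα, S.bil_M, bil_comm]; exact S.orth1)
  obtain ⟨u, hu, m, hum⟩ := exists_twist hF hq2 hL σ hσ ωT t0 i6 h12 hcyc ho1 ho2 ho3
  obtain ⟨us, hus⟩ := exists_preimage hF hu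
  set cs := us * cs1 with hcs
  set gs := stMap hF σ.toRingHom cs * cs⁻¹ with hgs
  clear_value cs gs
  let ω2 : List (Fin chevE7.rank) := ωT ++ [i6]
  set M := wmat ω2 with hMdef
  have hMf : (M : Matrix (Fin 7) (Fin 7) ℤ) = S.f := by
    rw [Sys.f, hSR, ← hωT]
    show (wmat (ωT ++ [i6]) : Matrix (Fin 7) (Fin 7) ℤ) = _
    rw [wmat_append, show wmat [i6] = smat i6 by simp [wmat], ← smat7_eq]
    rfl
  obtain ⟨t2, ht2⟩ : ∃ t2, gs = S7.nw ωT * ψ t2 * S7.nS i6 := by
    set z0 := S7.nw ωT * ψ (t0 * Pi.mulSingle i6 m) * S7.nS i6 with hz0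
    have hp : hF.proj K gs = hF.proj K z0 := by
      have hl : hF.proj K gs = gmap σ.toRingHom u * g1 * u⁻¹ := by
        rw [hgs, hcs, map_mul, map_inv, proj_stMap, map_mul, hus, map_mul, ← hc1, ← hg1]
        group
      have hr' : hF.proj K z0 = g1 * (torus chevE7 K (Pi.mulSingle i6 m) * (hF.tsys K).nS i6) := by
        have hn : hF.proj K (S7.nS i6) = (hF.tsys K).nS i6 := by
          have := hF.proj_nw hH (F := K) [i6]
          simpa [TorusSys.nw_singleton, hS7] using this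
        rw [hz0, map_mul, map_mul, hF.proj_nw hH, hψp, hn, map_mul]
        simp only [g1, mul_assoc]
      rw [hl, hr', ← hum, tau_apply]
      simp only [g1]
      group
    obtain ⟨k, hk⟩ : z0⁻¹ * gs ∈ ψ.range := hψr (hF.H_le_H0 hH (hF.ker_le_H hH (by
      rw [MonoidHom.mem_ker, map_mul, map_inv, hp, inv_mul_cancel])))
    refine ⟨t0 * Pi.mulSingle i6 m * act (smat i6) k, ?_⟩
    have hk' : gs = z0 * ψ k := by rw [hk, mul_inv_cancel_left]
    rw [hk', hz0, map_mul ψ (_ * _), ← nS_psi hF hH hψ i6 k, hS7]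
    group
  have hconj : ∀ e, gs * ψ e * gs⁻¹ = ψ (act M e) := by
    intro e
    rw [hMdef, wmat_append, show wmat [i6] = smat i6 by simp [wmat], act_mul, ← nw_psi hF hH hψ,
      ← nS_psi hF hH hψ, ht2]
    calc S7.nw ωT * ψ t2 * S7.nS i6 * ψ e * (S7.nw ωT * ψ t2 * S7.nS i6)⁻¹
        = S7.nw ωT * (ψ t2 * (S7.nS i6 * ψ e * (S7.nS i6)⁻¹) * (ψ t2)⁻¹) * (S7.nw ωT)⁻¹ := by group
      _ = _ := by
        rw [show S7.nS i6 * ψ e * (S7.nS i6)⁻¹ = ψ (act (smat i6) e) from nS_psi hF hH hψ i6 e, ← map_mul, mul_comm,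
          map_mul, mul_inv_cancel_right]
  -- the subgroup
  have hσψ : ∀ e, stMap hF σ.toRingHom (ψ e) = ψ (e ^ q) := fun e => by
    rw [stMap_psi hF hH hψ hψ]
    exact congrArg ψ (funext fun m => Units.ext (by rw [Pi.pow_apply, Units.val_pow_eq_pow_val]; exact hσ _))
  set cc := hF.proj K cs with hcc
  have hpre : ∀ e : kerT (L := K) M q, cc⁻¹ * torus chevE7 K e.1 * cc ∈ (chevE7.group F).map (gmap j) := fun e => by
    have h1 : stMap hF σ.toRingHom (cs⁻¹ * ψ e.1 * cs) = cs⁻¹ * ψ e.1 * cs := by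
      rw [map_mul, map_mul, map_inv, hσψ, ← mem_kerT.1 e.2, ← hconj, hgs]
      group
    have h2 := fixed_lift hF j σ hH hψ hψi hψp hψr hfix hσj h1
    rwa [map_mul, map_mul, map_inv, hψp] at h2
  choose φ hφG hφ using fun e => Subgroup.mem_map.1 (hpre e)
  let Φ : kerT (L := K) M q →* ↥(chevE7.group F) := MonoidHom.mk' (fun e => ⟨φ e, hφG e⟩) fun a b =>
    Subtype.ext (gmap_injective j (by
      show gmap j (φ (a * b)) = gmap j (φ a * φ b)
      rw [map_mul, hφ, hφ, hφ, Subgroup.coe_mul, map_mul]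
      group))
  have hchi : M.charpoly = cyclotomic 12 ℤ * (X ^ 3 + 1) := by
    exact (congrArg Matrix.charpoly hMf).trans S.chi_f
  have hMd : M ^ 12 = 1 := by
    exact (congrArg (fun A : Matrix (Fin 7) (Fin 7) ℤ => A ^ 12) hMf).trans S.pow_twelve
  have hcard : Nat.card (kerT (L := K) M q) = (q ^ 4 - q ^ 2 + 1) * (q ^ 3 + 1) := by
    have hev3 : ((X ^ 3 + 1 : ℤ[X]).eval (q : ℤ)).natAbs = q ^ 3 + 1 := by
      simp only [eval_add, eval_pow, eval_X, eval_one]
      rw [show (q : ℤ) ^ 3 + 1 = ((q ^ 3 + 1 : ℕ) : ℤ) by push_cast; rfl, Int.natAbs_natCast]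
    rw [card_kerT hL hMd, hchi, eval_mul, Int.natAbs_mul, hev12, hev3]
  have hcyc : IsCyclic (kerT (L := K) M q) := isCyclic_of_prime_torsion fun p' hp' => by
    have : Fact p'.Prime := ⟨hp'⟩
    refine card_torsion_le ?_
    by_cases hpd : p' ∣ 12
    · have h := S.eigen_small (hprimes p' hp' hpd) (q : ZMod p')
      rw [← hMf] at h
      exact h
    · refine finrank_eigen_le_one (χ := cyclotomic 12 ℤ * (X ^ 3 + 1)) (d := 12) hchi
        ⟨(X ^ 2 + 1) * (X ^ 3 - 1), ?_⟩ hpd _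
      rw [cyclotomic_twelve]; ring
  obtain ⟨e0, he0⟩ := hcyc.exists_generator
  have hne : ∀ p' : ℕ, p' = 1 ∨ p' = 2 ∨ p' = 3 ∨ p' = 5 ∨ p' = 7 → ∀ s : Fin chevE7.nroots,
      torChar chevE7 (e0.1 : Fin chevE7.rank → Kˣ) s.val ^ p' ≠ 1 := fun p' hp' s =>
    torChar_ne S hq2 hL (M := (M : Matrix (Fin 7) (Fin 7) ℤ)) hMf (e0 := e0) he0
      (by
        rcases hp' with rfl | h
        · exact isCoprime_one_right
        · exact coprime_phi h)
      (by omega) (by omega)
      (fun _ => by rcases hp' with rfl | rfl | rfl | rfl | rfl <;> norm_num) s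
  -- the kernel
  have hkerΦ : Nat.card Φ.ker = Nat.gcd 2 (q - 1) := by
    have h1 := card_torus_ker hF (F := F) kerCertE7
    rw [Fin.prod_univ_one, hq] at h1
    rw [show Nat.gcd 2 (q - 1) = Nat.card (torus chevE7 F).ker from h1.symm]
    have hone : ∀ c₀ : Fin chevE7.rank → Fˣ, torus chevE7 F c₀ = 1 →
        torus chevE7 K (fun m => Units.map j.toMonoidHom (c₀ m)) = 1 :=
      fun c₀ h => by rw [← gmap_torus, h, map_one]
    let ι : (torus chevE7 F).ker → Φ.ker := fun c₀ => ⟨⟨fun m => Units.map j.toMonoidHom (c₀.1 m), by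
      rw [mem_kerT, hMdef, act_ker hF (hone _ c₀.2) ω2]
      funext m
      refine Units.ext ?_
      rw [Pi.pow_apply, Units.val_pow_eq_pow_val]
      show j (c₀.1 m : F) = j (c₀.1 m : F) ^ q
      rw [← map_pow, ← hq, FiniteField.pow_card]⟩, by
      refine MonoidHom.mem_ker.2 (Subtype.ext (gmap_injective j ?_))
      show gmap j (φ _) = gmap j 1
      rw [hφ, map_one]
      show cc⁻¹ * torus chevE7 K (fun m => Units.map j.toMonoidHom (c₀.1 m)) * cc = 1
      rw [hone _ c₀.2]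
      group⟩
    refine (Nat.card_eq_of_bijective ι ⟨fun a b h => ?_, fun e => ?_⟩).symm
    · refine Subtype.ext (funext fun m => Units.map_injective (f := j.toMonoidHom) j.injective ?_)
      exact congrFun (congrArg (fun v : Φ.ker => (v.1 : Fin chevE7.rank → Kˣ)) h) m
    · have h2 : gmap j (φ e.1) = 1 := by
        rw [show φ e.1 = ((Φ e.1 : ↥(chevE7.group F)) : GL chevE7.Idx F) from rfl, MonoidHom.mem_ker.1 e.2,
          OneMemClass.coe_one, map_one]
      rw [hφ] at h2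
      have h3 : torus chevE7 K (e.1 : Fin chevE7.rank → Kˣ) = 1 := by
        calc torus chevE7 K (e.1 : Fin chevE7.rank → Kˣ) =
            cc * (cc⁻¹ * torus chevE7 K (e.1 : Fin chevE7.rank → Kˣ) * cc) * cc⁻¹ := by group
          _ = 1 := by rw [h2]; group
      have h4 : act M (e.1 : Fin chevE7.rank → Kˣ) = (e.1 : Fin chevE7.rank → Kˣ) ^ q := e.1.2
      rw [show act M (e.1 : Fin chevE7.rank → Kˣ) = (e.1 : Fin chevE7.rank → Kˣ) from act_ker hF h3 ω2] at h4
      choose c₀ hc₀ using fun m => hfix (((e.1 : Fin chevE7.rank → Kˣ) m : Kˣ) : K) (by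
        rw [hσ, ← Units.val_pow_eq_pow_val]; exact congrArg Units.val (congrFun h4 m).symm)
      have hne0 : ∀ m, c₀ m ≠ 0 := fun m h =>
        ((e.1 : Fin chevE7.rank → Kˣ) m).ne_zero (by rw [← hc₀ m, h, map_zero])
      have e1 : (fun m => Units.map j.toMonoidHom (Units.mk0 _ (hne0 m))) = (e.1 : Fin chevE7.rank → Kˣ) :=
        funext fun m => Units.ext (hc₀ m)
      refine ⟨⟨fun m => Units.mk0 _ (hne0 m), MonoidHom.mem_ker.2 (gmap_injective j ?_)⟩, Subtype.ext (Subtype.ext e1)⟩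
      rw [gmap_torus, e1, h3, map_one]
  refine ⟨Φ.range, isCyclic_of_surjective _ Φ.rangeRestrict_surjective, ?_, le_antisymm ?_ ?_⟩
  · have h := Subgroup.card_eq_card_quotient_mul_card_subgroup Φ.ker
    rw [Nat.card_congr (QuotientGroup.quotientKerEquivRange Φ).toEquiv, hcard, hkerΦ] at h
    rw [h, Nat.mul_div_cancel _ (hkerΦ ▸ Nat.card_pos)]
  · rintro ⟨h, hh⟩ hcen
    rw [Subgroup.mem_centralizer_iff] at hcen
    have hcomm : φ e0 * h = h * φ e0 := congrArg Subtype.val (hcen (Φ e0) ⟨e0, rfl⟩)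
    set y := cc * gmap j h * cc⁻¹ with hy
    have hyG : y ∈ chevE7.group K := mul_mem (mul_mem (proj_mem hF hH cs) (group_le hF j hh))
      (inv_mem (proj_mem hF hH cs))
    have hyH : y ∈ (hF.tsys K).H := by
      refine centralizer_regular hF (c := e0.1) (fun s => by simpa using hne 1 (Or.inl rfl) s)
        (fun p' hp' hpW s => hne p' ?_ s) hyG ?_
      · rw [card_weyl_eq hF lenSumE7] at hpW
        right
        obtain ⟨e, he, hpe⟩ := hp'.prime.dvd_prod_iff.1 hpW
        have hcases : e ∣ 2 * 2 * 3 * 3 * 5 * 7 * 2 * 2 := by fin_cases he <;> norm_num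
        have h1 := hpe.trans hcases
        repeat' first
          | (rcases hp'.dvd_mul.1 h1 with h1 | h1)
          | (have h2 := (Nat.prime_dvd_prime_iff_eq hp' (by norm_num)).1 h1; subst h2; simp)
      · have h5 : gmap j (φ e0) * gmap j h = gmap j h * gmap j (φ e0) := by rw [← map_mul, hcomm, map_mul]
        rw [hφ] at h5
        rw [hy]
        calc cc * gmap j h * cc⁻¹ * torus chevE7 K e0.1
            = cc * (gmap j h * (cc⁻¹ * torus chevE7 K e0.1 * cc)) * cc⁻¹ := by group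
          _ = _ := by rw [← h5]; group
    obtain ⟨e, he⟩ := exists_torus hF hyH
    obtain ⟨hs, hhs⟩ := exists_preimage hF hh
    obtain ⟨e', he'⟩ : cs * stMap hF j hs * cs⁻¹ ∈ ψ.range := by
      have hp : hF.proj K (cs * stMap hF j hs * cs⁻¹) = hF.proj K (ψ e) := by
        rw [map_mul, map_mul, map_inv, proj_stMap, hhs, hψp, he, hy]
      have h1 : cs * stMap hF j hs * cs⁻¹ * (ψ e)⁻¹ ∈ ψ.range := hψr (hF.H_le_H0 hH (hF.ker_le_H hH (by
        rw [MonoidHom.mem_ker, map_mul, map_inv, hp, mul_inv_cancel])))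
      have h2 := mul_mem h1 (MonoidHom.mem_range.2 ⟨e, rfl⟩)
      rwa [inv_mul_cancel_right] at h2
    have hττ : ∀ y, stMap hF σ.toRingHom (stMap hF j y) = stMap hF j y := by
      have h : (stMap hF σ.toRingHom).comp (stMap hF j) = stMap hF j := st_hom_ext fun r _ t => by
        rw [MonoidHom.comp_apply, stMap_x, stMap_x]
        exact congrArg (chevE7.stGen K r) (hσj t)
      exact fun y => DFunLike.congr_fun h y
    have hek : e' ∈ kerT (L := K) M q := by
      rw [mem_kerT]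
      refine hψi ?_
      rw [← hconj, ← hσψ, he', hgs, map_mul, map_mul, map_inv, hττ]
      group
    refine ⟨⟨e', hek⟩, Subtype.ext (gmap_injective j ?_)⟩
    show gmap j (φ ⟨e', hek⟩) = gmap j h
    rw [hφ]
    show cc⁻¹ * torus chevE7 K e' * cc = gmap j h
    rw [← hψp, he', map_mul, map_mul, map_inv, proj_stMap, hhs, ← hcc]
    group
  · rintro _ ⟨a, rfl⟩
    rw [Subgroup.mem_centralizer_iff]
    rintro _ ⟨b, rfl⟩
    rw [← map_mul, ← map_mul, mul_comm]

end Cfsg.Agent.Small.SelfCent.E7
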